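import Mathlib
import Cfsg.Agent.Lib.Helper43.RingAutFin

set_option autoImplicit false

/-!
# S4025 leaf L1: a finite field with `p ^ n` elements has exactly `n` ring automorphisms
(wrapper around `Cfsg.Agent.Lib.Helper43.RingAutFin.card_ringAut'`)
-/

namespace Cfsg.Agent.Lib.Helper55.SA

/-- L1: a finite field with `p ^ n` elements has exactly `n` ring automorphisms. -/
theorem card_ringAut {F : Type*} [Field F] [Finite F] {p n : ℕ} [Fact p.Prime]
    (hF : Nat.card F = p ^ n) : Nat.card (F ≃+* F) = n := by
  classical
  have : Fintype F := Fintype.ofFinite F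
  rw [Nat.card_eq_fintype_card] at hF
  exact Cfsg.Agent.Lib.Helper43.RingAutFin.card_ringAut' hF

end Cfsg.Agent.Lib.Helper55.SA
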