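import Mathlib

set_option autoImplicit false

/-! S4025 leaf L10 (helper25 for helper55): orbit-stabilizer for subgroups of a given order. -/

namespace Cfsg.Agent.Lib.Helper55.SA

open Pointwise

theorem l10_card_smul {V : Type*} [AddCommGroup V] {Γ : Type*} [Group Γ] [DistribMulAction Γ V]
    (g : Γ) (W : AddSubgroup V) : Nat.card ↥(g • W) = Nat.card ↥W := by
  have h : ((g • W : AddSubgroup V) : Set V) = (fun v => g • v) '' (W : Set V) := rfl
  have h1 : Nat.card ↥(g • W) = Nat.card ↥((fun v => g • v) '' (W : Set V)) := by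
    refine Nat.card_congr (Equiv.setCongr h)
  rw [h1]
  exact Nat.card_image_of_injective (MulAction.injective g) (W : Set V)

/-- L10: orbit-stabilizer for a group of automorphisms transitive on the subgroups of order `m`,
with a subgroup `Z` fixing all of them. -/
theorem card_subgroups_mul_dvd {V : Type*} [AddCommGroup V] [Finite V]
    {Γ : Type*} [Group Γ] [Finite Γ] [DistribMulAction Γ V] (m : ℕ)
    (hne : ∃ W : AddSubgroup V, Nat.card W = m)
    (hplanes : ∀ W₁ W₂ : AddSubgroup V, Nat.card W₁ = m → Nat.card W₂ = m →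
      ∃ g : Γ, ∀ v, v ∈ W₂ ↔ ∃ w ∈ W₁, g • w = v)
    (Z : Subgroup Γ) (hZ : ∀ z ∈ Z, ∀ W : AddSubgroup V, ∀ w ∈ W, z • w ∈ W) :
    Nat.card {W : AddSubgroup V // Nat.card W = m} * Nat.card Z ∣ Nat.card Γ := by
  obtain ⟨W₀, hW₀⟩ := hne
  -- the orbit of `W₀` is the set of subgroups of order `m`
  have horb : MulAction.orbit Γ W₀ = {W : AddSubgroup V | Nat.card W = m} := by
    ext W
    constructor
    · rintro ⟨g, rfl⟩
      show Nat.card ↥(g • W₀) = m
      rw [l10_card_smul, hW₀]
    · intro hW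
      obtain ⟨g, hg⟩ := hplanes W₀ W hW₀ hW
      refine ⟨g, ?_⟩
      ext v
      show v ∈ g • W₀ ↔ v ∈ W
      rw [AddSubgroup.mem_smul_pointwise_iff_exists, hg v]
  have h1 : Nat.card {W : AddSubgroup V // Nat.card W = m} =
      (MulAction.stabilizer Γ W₀).index := by
    rw [MulAction.index_stabilizer, horb]
    rfl
  -- `Z` stabilizes `W₀`
  have hZle : Z ≤ MulAction.stabilizer Γ W₀ := by
    intro z hz
    rw [MulAction.mem_stabilizer_iff]
    have hle : z • W₀ ≤ W₀ := by
      intro v hv
      obtain ⟨w, hw, rfl⟩ := (AddSubgroup.mem_smul_pointwise_iff_exists _ _ _).mp hv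
      exact hZ z hz W₀ w hw
    have hfin : Finite ↥W₀ := inferInstance
    apply SetLike.coe_injective
    apply Set.eq_of_subset_of_ncard_le hle
    · have := l10_card_smul z W₀
      change (W₀ : Set V).ncard ≤ ((z • W₀ : AddSubgroup V) : Set V).ncard
      rw [← _root_.Nat.card_coe_set_eq, ← _root_.Nat.card_coe_set_eq]
      exact this.symm.le
  rw [h1, ← Subgroup.index_mul_card (MulAction.stabilizer Γ W₀)]
  exact Nat.mul_dvd_mul_left _ (Subgroup.card_dvd_of_le hZle)

end Cfsg.Agent.Lib.Helper55.SA
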