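import Mathlib
import Cfsg.Prelude.Def_Perm

set_option autoImplicit false

/-!
# S4025 leaf L2: order bounds for the (semi)affine groups of a finite field
-/

namespace Cfsg.Agent.Lib.Helper55.SA

open Cfsg

theorem l2_card_units {F : Type*} [Field F] [Finite F] : Nat.card Fˣ = Nat.card F - 1 := by
  classical
  have : Fintype F := Fintype.ofFinite F
  rw [Nat.card_eq_fintype_card, Nat.card_eq_fintype_card, Fintype.card_units]

/-- L2b -/
theorem card_affineGroup_le {F : Type*} [Field F] [Finite F] :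
    Nat.card (Cfsg.affineGroup F) ≤ (Nat.card F - 1) * Nat.card F := by
  classical
  have hex : ∀ σ : Cfsg.affineGroup F, ∃ ab : Fˣ × F, ∀ x, (σ : Equiv.Perm F) x = (ab.1 : F) * x + ab.2 := by
    rintro ⟨σ, a, b, h⟩
    exact ⟨(a, b), h⟩
  choose f hf using hex
  have hinj : Function.Injective f := by
    intro σ τ h
    apply Subtype.ext
    apply Equiv.ext
    intro x
    rw [hf σ x, hf τ x, h]
  calc Nat.card (Cfsg.affineGroup F) ≤ Nat.card (Fˣ × F) := Nat.card_le_card_of_injective f hinj
    _ = (Nat.card F - 1) * Nat.card F := by rw [Nat.card_prod, l2_card_units]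

/-- L2a -/
theorem card_semiaffineGroup_le {F : Type*} [Field F] [Finite F] :
    Nat.card (Cfsg.semiaffineGroup F) ≤ (Nat.card F - 1) * Nat.card F * Nat.card (F ≃+* F) := by
  classical
  have hex : ∀ σ : Cfsg.semiaffineGroup F, ∃ ab : (Fˣ × F) × (F ≃+* F),
      ∀ x, (σ : Equiv.Perm F) x = (ab.1.1 : F) * ab.2 x + ab.1.2 := by
    rintro ⟨σ, a, b, φ, h⟩
    exact ⟨((a, b), φ), h⟩
  choose f hf using hex
  have hinj : Function.Injective f := by
    intro σ τ h
    apply Subtype.ext
    apply Equiv.ext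
    intro x
    rw [hf σ x, hf τ x, h]
  have : Finite (F ≃+* F) := Finite.of_injective (fun φ : F ≃+* F => (φ : F → F))
    (fun φ ψ h => RingEquiv.ext (fun x => congrFun h x))
  calc Nat.card (Cfsg.semiaffineGroup F) ≤ Nat.card ((Fˣ × F) × (F ≃+* F)) :=
        Nat.card_le_card_of_injective f hinj
    _ = (Nat.card F - 1) * Nat.card F * Nat.card (F ≃+* F) := by
        rw [Nat.card_prod, Nat.card_prod, l2_card_units]

end Cfsg.Agent.Lib.Helper55.SA
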