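import Mathlib

set_option autoImplicit false

/-! S4025 leaf L3 (helper49 for helper55): counting the subgroups of order `p` and `p ^ 2` of an
elementary abelian group. -/

namespace Cfsg.Agent.Lib.Helper55.SA

/-- all fibres of `f` have `k` elements -/
theorem l3_card_fiber {α β : Type*} [Finite α] [Finite β] (f : α → β) (k : ℕ)
    (h : ∀ b, Nat.card {a // f a = b} = k) : Nat.card α = Nat.card β * k := by
  classical
  have := Fintype.ofFinite β
  rw [Nat.card_congr (Equiv.sigmaFiberEquiv f).symm, Nat.card_sigma]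
  simp only [h, Finset.sum_const, Finset.card_univ, smul_eq_mul, Nat.card_eq_fintype_card]

theorem l3_card_ne {α : Type*} [Finite α] (a : α) : Nat.card {x : α // x ≠ a} = Nat.card α - 1 := by
  classical
  have := Fintype.ofFinite α
  rw [Nat.card_eq_fintype_card, Nat.card_eq_fintype_card]
  rw [Fintype.card_subtype_compl (fun x => x = a), Fintype.card_subtype_eq]

theorem l3_card_not_mem {U : Type*} [AddGroup U] [Finite U] (H : AddSubgroup U) :
    Nat.card {y : U // y ∉ H} = Nat.card U - Nat.card H := by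
  classical
  have := Fintype.ofFinite U
  rw [Nat.card_eq_fintype_card, Nat.card_eq_fintype_card, Nat.card_eq_fintype_card]
  rw [Fintype.card_subtype_compl (fun y => y ∈ H)]

/-- the number of pairs `(x, y)` with `x ≠ 0`, `y ∉ ⟨x⟩` -/
theorem l3_card_pairs {U : Type*} [AddGroup U] [Finite U] {p : ℕ} [Fact p.Prime]
    (hU : ∀ u : U, p • u = 0) :
    Nat.card {xy : U × U // xy.1 ≠ 0 ∧ xy.2 ∉ AddSubgroup.zmultiples xy.1} =
      (Nat.card U - 1) * (Nat.card U - p) := by
  classical
  let f : {xy : U × U // xy.1 ≠ 0 ∧ xy.2 ∉ AddSubgroup.zmultiples xy.1} → {x : U // x ≠ 0} :=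
    fun xy => ⟨xy.1.1, xy.2.1⟩
  rw [l3_card_fiber f (Nat.card U - p), l3_card_ne]
  intro x
  have hx : Nat.card (AddSubgroup.zmultiples x.1) = p := by
    rw [Nat.card_zmultiples]
    exact addOrderOf_eq_prime (hU x.1) x.2
  rw [← hx, ← l3_card_not_mem]
  refine Nat.card_congr ?_
  refine
    { toFun := fun a => ⟨a.1.1.2, ?_⟩
      invFun := fun y => ⟨⟨(x.1, y.1), x.2, y.2⟩, ?_⟩
      left_inv := ?_
      right_inv := ?_ }
  · have h1 := a.1.2.2
    have h2 : a.1.1.1 = x.1 := congrArg Subtype.val a.2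
    rw [h2] at h1
    exact h1
  · exact Subtype.ext rfl
  · rintro ⟨⟨⟨a, b⟩, h1, h2⟩, h3⟩
    have h4 : a = x.1 := congrArg Subtype.val h3
    subst h4
    rfl
  · intro y
    rfl

variable {V : Type*} [AddCommGroup V] [Finite V] {p n : ℕ} [Fact p.Prime]

theorem l3_card_zmultiples (hV : ∀ v : V, p • v = 0) {v : V} (hv : v ≠ 0) :
    Nat.card (AddSubgroup.zmultiples v) = p := by
  rw [Nat.card_zmultiples]
  exact addOrderOf_eq_prime (hV v) hv

theorem l3_eq_of_le_of_card {A B : AddSubgroup V} (h : A ≤ B) (hc : Nat.card B ≤ Nat.card A) :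
    A = B := by
  have h1 : (A : Set V) = B := by
    apply Set.eq_of_subset_of_ncard_le h _ (Set.toFinite _)
    rw [← Nat.card_coe_set_eq, ← Nat.card_coe_set_eq]
    exact hc
  exact SetLike.coe_injective h1

/-- L3a: the number of subgroups of order `p` of an elementary abelian group of order `p ^ n`. -/
theorem card_lines (hV : ∀ v : V, p • v = 0) (hcard : Nat.card V = p ^ n) :
    Nat.card {W : AddSubgroup V // Nat.card W = p} * (p - 1) = p ^ n - 1 := by
  classical
  let f : {v : V // v ≠ 0} → {W : AddSubgroup V // Nat.card W = p} :=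
    fun v => ⟨AddSubgroup.zmultiples v.1, l3_card_zmultiples hV v.2⟩
  rw [← hcard, ← l3_card_ne (0 : V)]
  symm
  apply l3_card_fiber f
  intro W
  have hW : Nat.card {w : W.1 // w ≠ 0} = p - 1 := by rw [l3_card_ne, W.2]
  rw [← hW]
  refine Nat.card_congr ?_
  refine
    { toFun := fun a => ⟨⟨a.1.1, ?_⟩, ?_⟩
      invFun := fun w => ⟨⟨w.1.1, ?_⟩, ?_⟩
      left_inv := ?_
      right_inv := ?_ }
  · have h1 : AddSubgroup.zmultiples a.1.1 = W.1 := congrArg Subtype.val a.2
    rw [← h1]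
    exact AddSubgroup.mem_zmultiples _
  · intro h
    exact a.1.2 (congrArg Subtype.val h)
  · intro h
    exact w.2 (Subtype.ext h)
  · apply Subtype.ext
    show AddSubgroup.zmultiples w.1.1 = W.1
    have hne : (w.1.1 : V) ≠ 0 := fun h => w.2 (Subtype.ext h)
    apply l3_eq_of_le_of_card
    · rw [AddSubgroup.zmultiples_le]
      exact w.1.2
    · rw [l3_card_zmultiples hV hne, W.2]
  · intro a
    rfl
  · intro w
    rfl

theorem l3_card_sup (hV : ∀ v : V, p • v = 0) {x y : V} (hx : x ≠ 0)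
    (hy : y ∉ AddSubgroup.zmultiples x) :
    Nat.card ↥(AddSubgroup.zmultiples x ⊔ AddSubgroup.zmultiples y) = p ^ 2 := by
  have hy0 : y ≠ 0 := by
    intro h
    rw [h] at hy
    exact hy (AddSubgroup.zero_mem _)
  have hcy := l3_card_zmultiples hV hy0
  have hcx := l3_card_zmultiples hV hx
  have hinf : AddSubgroup.zmultiples x ⊓ AddSubgroup.zmultiples y = ⊥ := by
    have hd : Nat.card ↥(AddSubgroup.zmultiples x ⊓ AddSubgroup.zmultiples y) ∣ p := by
      rw [← hcy]
      exact AddSubgroup.card_dvd_of_le inf_le_right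
    rcases (Nat.dvd_prime (Fact.out : p.Prime)).1 hd with h1 | h1
    · exact AddSubgroup.card_eq_one.1 h1
    · exfalso
      have h2 : AddSubgroup.zmultiples x ⊓ AddSubgroup.zmultiples y = AddSubgroup.zmultiples y := by
        apply l3_eq_of_le_of_card inf_le_right
        rw [h1, hcy]
      have h3 : AddSubgroup.zmultiples y ≤ AddSubgroup.zmultiples x := by
        rw [← h2]
        exact inf_le_left
      exact hy (h3 (AddSubgroup.mem_zmultiples y))
  have h1 := AddSubgroup.relIndex_mul_relIndex (⊥ : AddSubgroup V) (AddSubgroup.zmultiples y)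
    (AddSubgroup.zmultiples x ⊔ AddSubgroup.zmultiples y) bot_le le_sup_right
  rw [AddSubgroup.relIndex_bot_left, AddSubgroup.relIndex_bot_left,
    AddSubgroup.relIndex_sup_right, ← AddSubgroup.inf_relIndex_right, inf_comm, hinf,
    AddSubgroup.relIndex_bot_left, hcx, hcy] at h1
  rw [← h1, sq]

/-- L3b: the number of subgroups of order `p ^ 2` of an elementary abelian group of order
`p ^ n`. -/
theorem card_planes (hV : ∀ v : V, p • v = 0) (hcard : Nat.card V = p ^ n) :
    Nat.card {W : AddSubgroup V // Nat.card W = p ^ 2} * ((p ^ 2 - 1) * (p ^ 2 - p)) =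
      (p ^ n - 1) * (p ^ n - p) := by
  classical
  let f : {xy : V × V // xy.1 ≠ 0 ∧ xy.2 ∉ AddSubgroup.zmultiples xy.1} →
      {W : AddSubgroup V // Nat.card W = p ^ 2} :=
    fun xy => ⟨AddSubgroup.zmultiples xy.1.1 ⊔ AddSubgroup.zmultiples xy.1.2,
      l3_card_sup hV xy.2.1 xy.2.2⟩
  rw [← hcard, ← l3_card_pairs hV]
  symm
  apply l3_card_fiber f
  intro W
  have hW : ∀ w : W.1, p • w = 0 := fun w => Subtype.ext (hV w.1)
  have hWc := l3_card_pairs hW
  rw [W.2] at hWc
  rw [← hWc]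
  have hmem : ∀ a b : W.1, b ∈ AddSubgroup.zmultiples a ↔
      (b : V) ∈ AddSubgroup.zmultiples (a : V) := by
    intro a b
    rw [AddSubgroup.mem_zmultiples_iff, AddSubgroup.mem_zmultiples_iff]
    constructor
    · rintro ⟨k, hk⟩
      exact ⟨k, by rw [← hk]; rfl⟩
    · rintro ⟨k, hk⟩
      exact ⟨k, Subtype.ext hk⟩
  refine Nat.card_congr ?_
  refine
    { toFun := fun a => ⟨(⟨a.1.1.1, ?_⟩, ⟨a.1.1.2, ?_⟩), ?_, ?_⟩
      invFun := fun w => ⟨⟨(w.1.1.1, w.1.2.1), ?_, ?_⟩, ?_⟩
      left_inv := ?_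
      right_inv := ?_ }
  · have h1 : AddSubgroup.zmultiples a.1.1.1 ⊔ AddSubgroup.zmultiples a.1.1.2 = W.1 :=
      congrArg Subtype.val a.2
    rw [← h1]
    exact (le_sup_left : AddSubgroup.zmultiples a.1.1.1 ≤ _) (AddSubgroup.mem_zmultiples _)
  · have h1 : AddSubgroup.zmultiples a.1.1.1 ⊔ AddSubgroup.zmultiples a.1.1.2 = W.1 :=
      congrArg Subtype.val a.2
    rw [← h1]
    exact (le_sup_right : AddSubgroup.zmultiples a.1.1.2 ≤ _) (AddSubgroup.mem_zmultiples _)
  · intro h
    exact a.1.2.1 (congrArg Subtype.val h)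
  · intro h
    exact a.1.2.2 ((hmem _ _).1 h)
  · intro h
    exact w.2.1 (Subtype.ext h)
  · intro h
    exact w.2.2 ((hmem _ _).2 h)
  · apply Subtype.ext
    show AddSubgroup.zmultiples (w.1.1.1 : V) ⊔ AddSubgroup.zmultiples (w.1.2.1 : V) = W.1
    have hne : (w.1.1.1 : V) ≠ 0 := fun h => w.2.1 (Subtype.ext h)
    have hnm : (w.1.2.1 : V) ∉ AddSubgroup.zmultiples (w.1.1.1 : V) :=
      fun h => w.2.2 ((hmem _ _).2 h)
    apply l3_eq_of_le_of_card
    · rw [sup_le_iff, AddSubgroup.zmultiples_le, AddSubgroup.zmultiples_le]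
      exact ⟨w.1.1.2, w.1.2.2⟩
    · rw [l3_card_sup hV hne hnm, W.2]
  · intro a
    rfl
  · intro w
    rfl

end Cfsg.Agent.Lib.Helper55.SA
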