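import Mathlib
import Cfsg.Agent.Lib.Helper19.HallRel
import Cfsg.Agent.Lib.Helper24.SolvableMin

set_option autoImplicit false
set_option linter.style.haveILetI false

/-! S4025 leaf L4 (helper49 for helper55): no finite solvable group of order divisible by `5` and
`13` acts faithfully on an abelian group of order `81`. -/

namespace Cfsg.Agent.Lib.Helper55.SA

section core

variable {K V : Type*} [Group K] [AddCommGroup V] [DistribMulAction K V]

/-- the fixed points of a subgroup -/
def l4_fix (T : Subgroup K) : AddSubgroup V where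
  carrier := {v | ∀ t ∈ T, t • v = v}
  zero_mem' := fun t _ => smul_zero t
  add_mem' := by
    intro a b ha hb t ht
    rw [smul_add, ha t ht, hb t ht]
  neg_mem' := by
    intro a ha t ht
    rw [smul_neg, ha t ht]

theorem l4_mem_fix {T : Subgroup K} {v : V} : v ∈ l4_fix (V := V) T ↔ ∀ t ∈ T, t • v = v := Iff.rfl

theorem l4_card_modEq [Finite V] {r : ℕ} [Fact r.Prime] {T : Subgroup K} (hT : IsPGroup r T) :
    Nat.card V ≡ Nat.card (l4_fix (V := V) T) [MOD r] := by
  have h1 := hT.card_modEq_card_fixedPoints V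
  have h2 : Nat.card (MulAction.fixedPoints ↥T V) = Nat.card (l4_fix (V := V) T) := by
    refine Nat.card_congr (Equiv.subtypeEquivRight ?_)
    intro v
    rw [MulAction.mem_fixedPoints, l4_mem_fix]
    constructor
    · intro h t ht
      exact h ⟨t, ht⟩
    · intro h t
      exact h t.1 t.2
  rw [h2] at h1
  exact h1

theorem l4_eq_bot_of_fix_top [FaithfulSMul K V] {T : Subgroup K}
    (h : l4_fix (V := V) T = ⊤) : T = ⊥ := by
  rw [eq_bot_iff]
  intro t ht
  rw [Subgroup.mem_bot]
  apply FaithfulSMul.eq_of_smul_eq_smul (α := V)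
  intro v
  rw [one_smul]
  have hv : v ∈ l4_fix (V := V) T := by rw [h]; exact AddSubgroup.mem_top v
  exact hv t ht

theorem l4_card_cases [Finite V] (hV : Nat.card V = 81) (A : AddSubgroup V) :
    Nat.card A = 1 ∨ Nat.card A = 3 ∨ Nat.card A = 9 ∨ Nat.card A = 27 ∨ Nat.card A = 81 := by
  have h1 : Nat.card A ∣ 3 ^ 4 := by
    have := AddSubgroup.card_addSubgroup_dvd_card A
    rw [hV] at this
    exact this
  obtain ⟨k, hk, hk2⟩ := (Nat.dvd_prime_pow Nat.prime_three).1 h1
  rw [hk2]
  interval_cases k <;> simp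

theorem l4_card_fix_13 [Finite V] [FaithfulSMul K V] (hV : Nat.card V = 81) {T : Subgroup K}
    (hT : IsPGroup 13 T) (hne : T ≠ ⊥) : Nat.card (l4_fix (V := V) T) = 3 := by
  haveI : Fact (Nat.Prime 13) := ⟨by norm_num⟩
  have h1 := l4_card_modEq (V := V) hT
  rw [hV] at h1
  have h2 : Nat.card (l4_fix (V := V) T) ≠ 81 := by
    intro h
    apply hne
    apply l4_eq_bot_of_fix_top (V := V)
    rw [← AddSubgroup.card_eq_iff_eq_top, h, hV]
  unfold Nat.ModEq at h1
  rcases l4_card_cases hV (l4_fix (V := V) T) with h | h | h | h | h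
  · rw [h] at h1; omega
  · exact h
  · rw [h] at h1; omega
  · rw [h] at h1; omega
  · exact absurd h h2

theorem l4_card_fix_5 [Finite V] [FaithfulSMul K V] (hV : Nat.card V = 81) {T : Subgroup K}
    (hT : IsPGroup 5 T) (hne : T ≠ ⊥) : Nat.card (l4_fix (V := V) T) = 1 := by
  haveI : Fact (Nat.Prime 5) := ⟨by norm_num⟩
  have h1 := l4_card_modEq (V := V) hT
  rw [hV] at h1
  have h2 : Nat.card (l4_fix (V := V) T) ≠ 81 := by
    intro h
    apply hne
    apply l4_eq_bot_of_fix_top (V := V)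
    rw [← AddSubgroup.card_eq_iff_eq_top, h, hV]
  unfold Nat.ModEq at h1
  rcases l4_card_cases hV (l4_fix (V := V) T) with h | h | h | h | h
  · exact h
  · rw [h] at h1; omega
  · rw [h] at h1; omega
  · rw [h] at h1; omega
  · exact absurd h h2

/-- an `r`-group (`r > 3`) leaving invariant a subgroup of order `3` fixes it pointwise -/
theorem l4_le_fix [Finite V] {r : ℕ} [Fact r.Prime] (hr : 3 < r) {T : Subgroup K}
    (hT : IsPGroup r T) (L : AddSubgroup V) (hL : Nat.card L = 3)
    (hinv : ∀ t ∈ T, ∀ u ∈ L, t • u ∈ L) : L ≤ l4_fix (V := V) T := by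
  let Ls : SubMulAction ↥T V :=
    { carrier := (L : Set V)
      smul_mem' := fun t u hu => hinv t.1 t.2 u hu }
  have hLs : Nat.card ↥Ls = 3 := by
    rw [← hL]
    exact Nat.card_congr (Equiv.subtypeEquivRight (fun _ => Iff.rfl))
  have h1 := hT.card_modEq_card_fixedPoints ↥Ls
  rw [hLs] at h1
  have h2 : Nat.card (MulAction.fixedPoints ↥T ↥Ls) ≤ 3 := by
    rw [← hLs]
    exact Finite.card_subtype_le _
  have h3 : Nat.card (MulAction.fixedPoints ↥T ↥Ls) = 3 := by
    unfold Nat.ModEq at h1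
    rw [Nat.mod_eq_of_lt hr] at h1
    by_contra hne
    have hlt : Nat.card (MulAction.fixedPoints ↥T ↥Ls) < r := by omega
    rw [Nat.mod_eq_of_lt hlt] at h1
    exact hne h1.symm
  have h4 : MulAction.fixedPoints ↥T ↥Ls = Set.univ := by
    rw [Set.eq_univ_iff_ncard, ← Nat.card_coe_set_eq, h3, hLs]
  intro u hu t ht
  have h5 : (⟨u, hu⟩ : ↥Ls) ∈ MulAction.fixedPoints ↥T ↥Ls := by rw [h4]; exact Set.mem_univ _
  rw [MulAction.mem_fixedPoints] at h5
  have h6 := h5 ⟨t, ht⟩
  exact congrArg Subtype.val h6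

/-- the key contradiction: a nontrivial `5`-group normalising a nontrivial `13`-group -/
theorem l4_false_of_pair [Finite V] [FaithfulSMul K V] (hV : Nat.card V = 81) {T5 T13 : Subgroup K}
    (h5 : IsPGroup 5 T5) (h5ne : T5 ≠ ⊥) (h13 : IsPGroup 13 T13) (h13ne : T13 ≠ ⊥)
    (hn : ∀ t ∈ T5, ∀ s ∈ T13, t⁻¹ * s * t ∈ T13) : False := by
  haveI : Fact (Nat.Prime 5) := ⟨by norm_num⟩
  have hL := l4_card_fix_13 (V := V) hV h13 h13ne
  have h1 : l4_fix (V := V) T13 ≤ l4_fix (V := V) T5 := by
    apply l4_le_fix (r := 5) (by norm_num) h5 _ hL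
    intro t ht u hu s hs
    have h2 : s * t = t * (t⁻¹ * s * t) := by group
    rw [← mul_smul, h2, mul_smul, hu _ (hn t ht s hs)]
  have h2 := AddSubgroup.card_le_of_le h1
  rw [hL, l4_card_fix_5 (V := V) hV h5 h5ne] at h2
  omega

theorem l4_isPGroup_zpowers {r : ℕ} [Fact r.Prime] {g : K} (hg : orderOf g = r) :
    IsPGroup r (Subgroup.zpowers g) := by
  apply IsPGroup.of_card (n := 1)
  rw [Nat.card_zpowers, hg, pow_one]

theorem l4_zpowers_ne_bot {r : ℕ} [Fact r.Prime] {g : K} (hg : orderOf g = r) :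
    Subgroup.zpowers g ≠ ⊥ := by
  rw [Subgroup.zpowers_ne_bot]
  intro h
  rw [h, orderOf_one] at hg
  exact (Fact.out : r.Prime).one_lt.ne hg

theorem l4_core [Finite K] [Finite V] [FaithfulSMul K V] (hV : Nat.card V = 81)
    [Group.IsSolvable K] (hπ : ∀ r : ℕ, r.Prime → r ∣ Nat.card K → r = 5 ∨ r = 13)
    (h5 : 5 ∣ Nat.card K) (h13 : 13 ∣ Nat.card K) : False := by
  haveI i5 : Fact (Nat.Prime 5) := ⟨by norm_num⟩
  haveI i13 : Fact (Nat.Prime 13) := ⟨by norm_num⟩
  obtain ⟨g, hg⟩ := exists_prime_orderOf_dvd_card' (G := K) 5 h5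
  obtain ⟨h, hh⟩ := exists_prime_orderOf_dvd_card' (G := K) 13 h13
  haveI : Nontrivial K := by
    refine ⟨⟨g, 1, ?_⟩⟩
    intro h1
    rw [h1, orderOf_one] at hg
    omega
  obtain ⟨r, hr, D, hDn, hDne, hD⟩ := Cfsg.Agent.Lib.Helper24.exists_normal_pSubgroup_of_solvable K
  haveI : Fact r.Prime := ⟨hr⟩
  haveI : Nontrivial ↥D := (Subgroup.nontrivial_iff_ne_bot D).2 hDne
  obtain ⟨k, hk0, hk⟩ := (hD.nontrivial_iff_card).1 inferInstance
  have hrK : r ∣ Nat.card K := by
    refine dvd_trans ?_ (Subgroup.card_subgroup_dvd_card D)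
    rw [hk]
    exact dvd_pow_self r (ne_of_gt hk0)
  rcases hπ r hr hrK with rfl | rfl
  · -- `D` is a normal `5`-subgroup
    obtain ⟨u, hu⟩ : ∃ u : V, u ≠ 0 := by
      haveI : Nontrivial V := by
        rw [← Finite.one_lt_card_iff_nontrivial, hV]
        norm_num
      exact exists_ne 0
    have hinj : Function.Injective (fun d : ↥D => (d : K) • u) := by
      intro d d' hdd
      by_contra hne
      have he : (d' : K)⁻¹ * d ≠ 1 := by
        intro h1
        apply hne
        apply Subtype.ext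
        rw [inv_mul_eq_one] at h1
        exact h1.symm
      have heD : (d' : K)⁻¹ * d ∈ D := D.mul_mem (D.inv_mem d'.2) d.2
      have hT : IsPGroup 5 (Subgroup.zpowers ((d' : K)⁻¹ * d)) :=
        hD.to_le (Subgroup.zpowers_le.2 heD)
      have hTne : Subgroup.zpowers ((d' : K)⁻¹ * d) ≠ ⊥ := by
        rw [Subgroup.zpowers_ne_bot]
        exact he
      have hc := l4_card_fix_5 (V := V) hV hT hTne
      have hu2 : u ∈ l4_fix (V := V) (Subgroup.zpowers ((d' : K)⁻¹ * d)) := by
        intro t ht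
        have hst : (d' : K)⁻¹ * d ∈ MulAction.stabilizer K u := by
          rw [MulAction.mem_stabilizer_iff, mul_smul]
          have h2 : (d : K) • u = (d' : K) • u := hdd
          rw [h2, inv_smul_smul]
        exact (Subgroup.zpowers_le.2 hst) ht
      rw [AddSubgroup.card_eq_one] at hc
      rw [hc, AddSubgroup.mem_bot] at hu2
      exact hu hu2
    have hle : Nat.card ↥D ≤ 81 := by
      rw [← hV]
      exact Nat.card_le_card_of_injective _ hinj
    have hk2 : k ≤ 2 := by
      by_contra hk3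
      have : 5 ^ 3 ≤ 5 ^ k := Nat.pow_le_pow_right (by norm_num) (by omega)
      rw [hk] at hle
      omega
    -- the conjugation action of `⟨h⟩` on `D`
    have hT13 : IsPGroup 13 (Subgroup.zpowers h) := l4_isPGroup_zpowers hh
    let φ : ↥(Subgroup.zpowers h) →* MulAut ↥D :=
      (MulAut.conjNormal (H := D)).comp (Subgroup.zpowers h).subtype
    letI : MulAction ↥(Subgroup.zpowers h) ↥D := MulAction.compHom ↥D φ
    have h1 := hT13.card_modEq_card_fixedPoints ↥D
    have h2 : Nat.card (MulAction.fixedPoints ↥(Subgroup.zpowers h) ↥D) ≠ 1 := by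
      intro h3
      rw [h3, hk] at h1
      unfold Nat.ModEq at h1
      interval_cases k <;> omega
    obtain ⟨d, hd, hd1⟩ : ∃ d ∈ MulAction.fixedPoints ↥(Subgroup.zpowers h) ↥D, d ≠ 1 := by
      by_contra hall
      push Not at hall
      apply h2
      rw [Nat.card_eq_one_iff_unique]
      refine ⟨⟨?_⟩, ⟨⟨1, ?_⟩⟩⟩
      · intro a b
        apply Subtype.ext
        rw [hall a.1 a.2, hall b.1 b.2]
      · intro t
        exact map_one (φ t)
    have hcomm : h * (d : K) = (d : K) * h := by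
      have h3 := hd ⟨h, Subgroup.mem_zpowers h⟩
      have h4 : ((φ ⟨h, Subgroup.mem_zpowers h⟩ d : ↥D) : K) = h * d * h⁻¹ := rfl
      have h5 : φ ⟨h, Subgroup.mem_zpowers h⟩ d = d := h3
      rw [h5] at h4
      calc h * (d : K) = (h * (d : K) * h⁻¹) * h := by group
        _ = (d : K) * h := by rw [← h4]
    have hdK : (d : K) ≠ 1 := fun h3 => hd1 (Subtype.ext h3)
    refine l4_false_of_pair (V := V) hV (T5 := Subgroup.zpowers (d : K))
      (T13 := Subgroup.zpowers h) (hD.to_le (Subgroup.zpowers_le.2 d.2)) ?_ hT13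
      (l4_zpowers_ne_bot hh) ?_
    · rw [Subgroup.zpowers_ne_bot]
      exact hdK
    · intro t ht s hs
      obtain ⟨i, rfl⟩ := Subgroup.mem_zpowers_iff.1 ht
      obtain ⟨j, rfl⟩ := Subgroup.mem_zpowers_iff.1 hs
      have hc : Commute ((d : K) ^ i) (h ^ j) :=
        (Commute.zpow_zpow (show Commute (d : K) h from hcomm.symm) i j)
      rw [mul_assoc, ← hc.eq, ← mul_assoc, inv_mul_cancel, one_mul]
      exact Subgroup.zpow_mem_zpowers h j
  · -- `D` is a normal `13`-subgroup
    refine l4_false_of_pair (V := V) hV (T5 := Subgroup.zpowers g) (T13 := D)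
      (l4_isPGroup_zpowers hg) (l4_zpowers_ne_bot hg) hD hDne ?_
    intro t _ s hs
    have := hDn.conj_mem s hs t⁻¹
    rwa [inv_inv] at this

end core

/-- L4: no finite solvable group of order divisible by `5` and by `13` acts faithfully by
automorphisms on an abelian group of order `81`. -/
theorem false_of_81 {H V : Type*} [Group H] [Finite H] [AddCommGroup V] [DistribMulAction H V]
    [FaithfulSMul H V] (hV : Nat.card V = 81) (hsol : Group.IsSolvable H)
    (h5 : 5 ∣ Nat.card H) (h13 : 13 ∣ Nat.card H) : False := by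
  haveI : Finite V := Nat.finite_of_card_ne_zero (by rw [hV]; norm_num)
  obtain ⟨m, n, hmn, hcop, hm, hn⟩ :=
    Cfsg.Agent.Lib.Helper19.HallRel.pi_factorization ({5, 13} : Set ℕ) (Nat.card H) Nat.card_pos
  obtain ⟨K0, hK0, -⟩ := Cfsg.Agent.Lib.Helper1.hallDom_all H hsol m n hmn hcop ⊥
    (by rw [Subgroup.card_bot]; exact Nat.coprime_one_left n)
  have h5m : 5 ∣ m := by
    rw [hmn] at h5
    rcases (Nat.Prime.dvd_mul (by norm_num)).1 h5 with h | h
    · exact h
    · exact absurd (by simp) (hn 5 (by norm_num) h)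
  have h13m : 13 ∣ m := by
    rw [hmn] at h13
    rcases (Nat.Prime.dvd_mul (by norm_num)).1 h13 with h | h
    · exact h
    · exact absurd (by simp) (hn 13 (by norm_num) h)
  haveI : Group.IsSolvable H := hsol
  refine l4_core (K := ↥K0) (V := V) hV ?_ ?_ ?_
  · intro r hr hrd
    rw [hK0] at hrd
    have := hm r hr hrd
    simpa using this
  · rw [hK0]; exact h5m
  · rw [hK0]; exact h13m

end Cfsg.Agent.Lib.Helper55.SA
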