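import Mathlib

set_option autoImplicit false

/-! S4025 leaf L5 (helper25 for helper55): Burnside fusion for subgroups of an abelian Sylow. -/

namespace Cfsg.Agent.Lib.Helper55.SA

open Pointwise

/-- L5: Burnside: the normalizer of an abelian Sylow subgroup controls fusion of its subgroups. -/
theorem exists_normalizer_conj {G : Type*} [Group G] [Finite G] {p : ℕ} [Fact p.Prime]
    (P : Sylow p G) (hP : ∀ x ∈ (P : Subgroup G), ∀ y ∈ (P : Subgroup G), x * y = y * x)
    (H₁ H₂ : Subgroup G) (h₁ : H₁ ≤ P) (h₂ : H₂ ≤ P) (g : G)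
    (hg : H₂ = H₁.map (MulAut.conj g).toMonoidHom) :
    ∃ m ∈ Subgroup.normalizer ((P : Subgroup G) : Set G),
      H₂ = H₁.map (MulAut.conj m).toMonoidHom := by
  have h1 : (P : Subgroup G) ≤ Subgroup.centralizer (H₂ : Set G) := by
    intro x hx
    rw [Subgroup.mem_centralizer_iff]
    intro y hy
    exact hP y (h₂ hy) x hx
  have h2 : ((g • P : Sylow p G) : Subgroup G) ≤ Subgroup.centralizer (H₂ : Set G) := by
    intro x hx
    rw [Sylow.smul_def] at hx
    have hx2 : x ∈ MulAut.conj g • (P : Subgroup G) := hx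
    obtain ⟨z, hz, rfl⟩ := (Subgroup.mem_smul_pointwise_iff_exists _ _ _).mp hx2
    rw [Subgroup.mem_centralizer_iff]
    intro y hy
    rw [hg] at hy
    obtain ⟨w, hw, rfl⟩ := Subgroup.mem_map.mp hy
    have hc := hP w (h₁ hw) z hz
    simp only [MulEquiv.coe_toMonoidHom, MulAut.conj_apply, MulAut.smul_def]
    calc g * w * g⁻¹ * (g * z * g⁻¹) = g * (w * z) * g⁻¹ := by group
      _ = g * (z * w) * g⁻¹ := by rw [hc]
      _ = g * z * g⁻¹ * (g * w * g⁻¹) := by group
  obtain ⟨c, hc⟩ := MulAction.exists_smul_eq (Subgroup.centralizer (H₂ : Set G))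
    ((g • P).subtype h2) (P.subtype h1)
  simp_rw [Sylow.smul_subtype, Subgroup.smul_def, smul_smul] at hc
  have hm : (c : G) * g ∈ Subgroup.normalizer ((P : Subgroup G) : Set G) :=
    Sylow.smul_eq_iff_mem_normalizer.mp (Sylow.subtype_injective hc)
  refine ⟨(c : G) * g, hm, ?_⟩
  ext x
  constructor
  · intro hx
    -- x ∈ H₂, so c⁻¹ x c = x, and x = g w g⁻¹
    have hx' := hx
    rw [hg] at hx'
    obtain ⟨w, hw, rfl⟩ := Subgroup.mem_map.mp hx'
    refine Subgroup.mem_map.mpr ⟨w, hw, ?_⟩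
    have hcx := (Subgroup.mem_centralizer_iff.mp c.2) _ hx
    simp only [MulEquiv.coe_toMonoidHom, MulAut.conj_apply] at hcx ⊢
    calc (c : G) * g * w * ((c : G) * g)⁻¹ = ((c : G) * (g * w * g⁻¹)) * (c : G)⁻¹ := by group
      _ = ((g * w * g⁻¹) * (c : G)) * (c : G)⁻¹ := by rw [hcx]
      _ = g * w * g⁻¹ := by group
  · intro hx
    obtain ⟨w, hw, rfl⟩ := Subgroup.mem_map.mp hx
    have hgw : g * w * g⁻¹ ∈ H₂ := by
      rw [hg]
      exact Subgroup.mem_map.mpr ⟨w, hw, rfl⟩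
    have hcx := (Subgroup.mem_centralizer_iff.mp c.2) _ hgw
    simp only [MulEquiv.coe_toMonoidHom, MulAut.conj_apply]
    have : (c : G) * g * w * ((c : G) * g)⁻¹ = g * w * g⁻¹ := by
      calc (c : G) * g * w * ((c : G) * g)⁻¹ = ((c : G) * (g * w * g⁻¹)) * (c : G)⁻¹ := by group
        _ = ((g * w * g⁻¹) * (c : G)) * (c : G)⁻¹ := by rw [hcx]
        _ = g * w * g⁻¹ := by group
    rw [this]
    exact hgw

end Cfsg.Agent.Lib.Helper55.SA
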