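import Mathlib
import Cfsg.Prelude.Def_Transfer
import Cfsg.Prelude.Def_CaseTheorems
import Cfsg.Prelude.Def_Perm
import Cfsg.Agent.Lib.Helper55.Cores

set_option autoImplicit false
set_option linter.style.haveILetI false

/-!
# S4025 leaf L6: `O_{p'}` of a group with a normal abelian Sylow `p`-subgroup and a complement.
-/

namespace Cfsg.Agent.Lib.Helper55.SA

open Cfsg

/-- L6: structure of `O_{p'}` of a group with a normal abelian Sylow `p`-subgroup `Q` and a
complement `L`. -/
theorem pPrimeCore_eq_normalCore {M : Type*} [Group M] [Finite M] {p : ℕ} [Fact p.Prime]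
    (Q : Subgroup M) [Q.Normal] (hQp : IsPGroup p Q)
    (hQab : ∀ x ∈ Q, ∀ y ∈ Q, x * y = y * x) (hQi : ¬ p ∣ Q.index)
    (L : Subgroup M) (hL : Subgroup.IsComplement' Q L) :
    Cfsg.pPrimeCore p M = L.normalCore ∧
      Cfsg.pPrimeCore p M = L ⊓ Subgroup.centralizer (Q : Set M) ∧
      Subgroup.centralizer (Q : Set M) = Q ⊔ Cfsg.pPrimeCore p M := by
  have hp := (Fact.out : p.Prime)
  set K := Cfsg.pPrimeCore p M with hK
  haveI hKn : K.Normal := Cfsg.Agent.Lib.Helper55.pPrimeCore_normal' p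
  have hKc : (Nat.card K).Coprime p := Cfsg.Agent.Lib.Helper55.pPrimeCore_card_coprime p
  have hLidx : Nat.card L = Q.index := hL.symm.index_eq_card.symm
  have hLc : (Nat.card L).Coprime p := by
    rw [hLidx]
    exact ((Nat.Prime.coprime_iff_not_dvd hp).mpr hQi).symm
  obtain ⟨a, ha⟩ := IsPGroup.iff_card.mp hQp
  -- `K ≤ L`
  have hKL : K ≤ L := by
    have h1 : Nat.card (L ⊔ K : Subgroup M) ∣ Nat.card L * Nat.card K :=
      Cfsg.Agent.Lib.Helper55.card_sup_dvd_mul L K
    have h2 : (Nat.card (L ⊔ K : Subgroup M)).Coprime p :=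
      Nat.Coprime.coprime_dvd_left h1 (Nat.Coprime.mul_left hLc hKc)
    have h3 : Nat.card (L ⊔ K : Subgroup M) ∣ Nat.card Q * Nat.card L := by
      rw [hL.card_mul_card]
      exact Subgroup.card_subgroup_dvd_card _
    have h4 : Nat.card (L ⊔ K : Subgroup M) ∣ Nat.card L := by
      apply Nat.Coprime.dvd_of_dvd_mul_left _ h3
      rw [ha]
      exact Nat.Coprime.pow_right a h2
    have h5 : L = L ⊔ K :=
      Subgroup.eq_of_le_of_card_ge le_sup_left (Nat.le_of_dvd Nat.card_pos h4)
    rw [h5]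
    exact le_sup_right
  -- `K` and `Q` commute
  have hdisj : Disjoint K Q := by
    apply Subgroup.disjoint_of_coprime_natCard
    rw [ha]
    exact Nat.Coprime.pow_right a hKc
  have hKC : K ≤ Subgroup.centralizer (Q : Set M) := by
    intro k hk
    rw [Subgroup.mem_centralizer_iff]
    intro q hq
    exact (Subgroup.commute_of_normal_of_disjoint K Q hKn inferInstance hdisj k q hk hq).symm.eq
  -- `D = L ⊓ C(Q)` is normal
  have hDn : (L ⊓ Subgroup.centralizer (Q : Set M)).Normal := by
    constructor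
    intro d hd m
    obtain ⟨⟨q, l⟩, hql⟩ := hL.2 m
    have hql' : (q : M) * (l : M) = m := hql
    have h1 : (l : M) * d * (l : M)⁻¹ ∈ L ⊓ Subgroup.centralizer (Q : Set M) :=
      ⟨L.mul_mem (L.mul_mem l.2 hd.1) (L.inv_mem l.2),
        (Subgroup.normal_centralizer (H := Q)).conj_mem d hd.2 l⟩
    have h2 : m * d * m⁻¹ = (q : M) * ((l : M) * d * (l : M)⁻¹) * (q : M)⁻¹ := by
      rw [← hql']
      group
    have h3 : (q : M) * ((l : M) * d * (l : M)⁻¹) * (q : M)⁻¹ = (l : M) * d * (l : M)⁻¹ := by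
      have h4 := (Subgroup.mem_centralizer_iff.mp h1.2) q q.2
      -- h4 : q * x = x * q
      rw [h4, mul_inv_cancel_right]
    rw [h2, h3]
    exact h1
  have hDK : L ⊓ Subgroup.centralizer (Q : Set M) ≤ K := by
    haveI := hDn
    apply Cfsg.Agent.Lib.Helper55.le_pPrimeCore p
    exact Nat.Coprime.coprime_dvd_left (Subgroup.card_dvd_of_le inf_le_left) hLc
  have hKD : K = L ⊓ Subgroup.centralizer (Q : Set M) :=
    le_antisymm (le_inf hKL hKC) hDK
  refine ⟨?_, hKD, ?_⟩
  · apply le_antisymm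
    · exact Subgroup.normal_le_normalCore.mpr hKL
    · apply Cfsg.Agent.Lib.Helper55.le_pPrimeCore p
      exact Nat.Coprime.coprime_dvd_left (Subgroup.card_dvd_of_le (Subgroup.normalCore_le L)) hLc
  · have hQC : Q ≤ Subgroup.centralizer (Q : Set M) := by
      intro x hx
      rw [Subgroup.mem_centralizer_iff]
      intro y hy
      exact hQab y hy x hx
    apply le_antisymm
    · intro c hc
      obtain ⟨⟨q, l⟩, hql⟩ := hL.2 c
      have hql' : (q : M) * (l : M) = c := hql
      have hl : (l : M) = (q : M)⁻¹ * c := by rw [← hql']; group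
      have hlC : (l : M) ∈ Subgroup.centralizer (Q : Set M) := by
        rw [hl]
        exact Subgroup.mul_mem _ (Subgroup.inv_mem _ (hQC q.2)) hc
      have hlK : (l : M) ∈ K := hDK ⟨l.2, hlC⟩
      rw [← hql']
      exact Subgroup.mul_mem _ (Subgroup.mem_sup_left q.2) (Subgroup.mem_sup_right hlK)
    · exact sup_le hQC hKC

end Cfsg.Agent.Lib.Helper55.SA
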