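import Mathlib

/-! # S4025 leaf L7' (helper79 for helper55): the field automorphism part of a group of semilinear maps -/

set_option autoImplicit false
set_option linter.unusedSectionVars false
set_option linter.style.haveILetI false

namespace Cfsg.Agent.Lib.Helper55.SA

/-- uniqueness of the pair `(a, σ)` of a semilinear map `x ↦ a * σ x`, `a ≠ 0` -/
theorem l7p_unique {F : Type*} [Field F] (a b : F) (σ τ : F ≃+* F) (ha : a ≠ 0)
    (h : ∀ x : F, a * σ x = b * τ x) : a = b ∧ σ = τ := by
  have hab : a = b := by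
    have := h 1
    rwa [map_one, map_one, mul_one, mul_one] at this
  refine ⟨hab, ?_⟩
  apply RingEquiv.ext
  intro x
  have := h x
  rw [← hab] at this
  exact mul_left_cancel₀ ha this

/-- L7': the field automorphism part of a group of semilinear maps is a homomorphism. -/
theorem exists_sigma_hom {V : Type*} [AddCommGroup V] [Nontrivial V]
    {Γ : Type*} [Group Γ] [DistribMulAction Γ V]
    {F : Type*} [Field F] (e : V ≃+ F)
    (hsl : ∀ g : Γ, ∃ (a : F) (σ : F ≃+* F), ∀ v : V, e (g • v) = a * σ (e v)) :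
    ∃ (φ : Γ →* (F ≃+* F)) (a : Γ → Fˣ), ∀ (g : Γ) (v : V), e (g • v) = (a g : F) * φ g (e v) := by
  classical
  choose a σ hσ using hsl
  -- the scalars are non-zero
  have ha : ∀ g : Γ, a g ≠ 0 := by
    intro g h0
    obtain ⟨v, hv⟩ := exists_ne (0 : V)
    have h1 : e (g • (g⁻¹ • v)) = 0 := by rw [hσ g, h0, zero_mul]
    rw [smul_inv_smul] at h1
    exact hv (e.map_eq_zero_iff.1 h1)
  -- the pairs multiply
  have hmul : ∀ g h : Γ, σ (g * h) = σ g * σ h := by
    intro g h
    have key : ∀ x : F, a (g * h) * σ (g * h) x = (a g * σ g (a h)) * (σ g * σ h) x := by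
      intro x
      have h1 := hσ (g * h) (e.symm x)
      rw [mul_smul, hσ g, hσ h, AddEquiv.apply_symm_apply, map_mul] at h1
      rw [← h1, mul_assoc]
      rfl
    exact (l7p_unique _ _ _ _ (ha (g * h)) key).2
  have hone : σ 1 = 1 := by
    have key : ∀ x : F, a 1 * σ 1 x = 1 * (1 : F ≃+* F) x := by
      intro x
      have h1 := hσ 1 (e.symm x)
      rw [one_smul, AddEquiv.apply_symm_apply] at h1
      rw [← h1, one_mul]
      rfl
    exact (l7p_unique _ _ _ _ (ha 1) key).2
  refine ⟨⟨⟨σ, hone⟩, hmul⟩, fun g => Units.mk0 (a g) (ha g), fun g v => ?_⟩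
  exact hσ g v

end Cfsg.Agent.Lib.Helper55.SA
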