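import Mathlib
import Cfsg.Agent.Lib.Helper55.SA.L1
import Cfsg.Agent.Lib.Helper55.SA.L3
import Cfsg.Agent.Lib.Helper55.SA.L7p
import Cfsg.Agent.Lib.Helper55.SA.L10

set_option autoImplicit false
set_option linter.unusedSectionVars false

namespace Cfsg.Agent.Lib.Helper55.SA

theorem l7_two_pow (m : ℕ) : m + 8 ≤ 2 ^ (m + 3) := by
  induction m with
  | zero => norm_num
  | succ m ih =>
    rw [show m + 1 + 3 = (m + 3) + 1 from rfl, pow_succ]
    omega

/-- the arithmetic at the end of the counting argument -/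
theorem l7_arith {p n k : ℕ} (hp : p.Prime) (hn : 3 ≤ n) (hkn : k ∣ n)
    (hdvd : (p ^ (n - 1) - 1) ∣ k * (p ^ 2 - 1)) : n = 3 ∨ (n = 5 ∧ p = 2 ∧ k = 5) := by
  have hp2 : 2 ≤ p := hp.two_le
  have hk0 : 0 < k := Nat.pos_of_dvd_of_pos hkn (by omega)
  have hkle : k ≤ n := Nat.le_of_dvd (by omega) hkn
  have hp4 : 4 ≤ p ^ 2 := by nlinarith
  have hpos : 0 < k * (p ^ 2 - 1) := Nat.mul_pos hk0 (by omega)
  have hle := Nat.le_of_dvd hpos hdvd
  rcases (by omega : n = 3 ∨ n = 4 ∨ n = 5 ∨ 6 ≤ n) with h | h | h | h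
  · left
    exact h
  · exfalso
    subst h
    have hk4 : k = 1 ∨ k = 2 ∨ k = 4 := by
      have h4 : k ≤ 4 := hkle
      interval_cases k
      · left; rfl
      · right; left; rfl
      · exfalso; omega
      · right; right; rfl
    have hp3 : p ≤ 3 := by
      by_contra hcon
      have h4p : 4 ≤ p := by omega
      have e1 : p ^ (4 - 1) = p * p ^ 2 := by
        rw [show 4 - 1 = 3 from rfl]
        ring
      rw [e1] at hle
      have h5 : 4 * p ^ 2 ≤ p * p ^ 2 := Nat.mul_le_mul_right _ h4p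
      have h6 : k * (p ^ 2 - 1) ≤ 4 * (p ^ 2 - 1) := Nat.mul_le_mul_right _ hkle
      omega
    have hp23 : p = 2 ∨ p = 3 := by omega
    rcases hp23 with rfl | rfl
    · rcases hk4 with rfl | rfl | rfl <;> norm_num at hdvd
    · rcases hk4 with rfl | rfl | rfl <;> norm_num at hdvd
  · right
    subst h
    have h1 : p ^ (5 - 1) - 1 = (p ^ 2 + 1) * (p ^ 2 - 1) := by
      rw [show 5 - 1 = 4 from rfl]
      have e : p ^ 4 = p ^ 2 * p ^ 2 := by ring
      rw [e]
      obtain ⟨t, ht⟩ : ∃ t, p ^ 2 = t + 1 := ⟨p ^ 2 - 1, by omega⟩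
      rw [ht]
      simp only [Nat.add_sub_cancel]
      have : (t + 1) * (t + 1) = (t + 1 + 1) * t + 1 := by ring
      rw [this]
      simp
    rw [h1] at hdvd
    have h2 : (p ^ 2 + 1) ∣ k := Nat.dvd_of_mul_dvd_mul_right (by omega) hdvd
    have hk5 : k = 1 ∨ k = 5 := (Nat.dvd_prime Nat.prime_five).1 hkn
    have h3 : p ^ 2 + 1 ≤ k := Nat.le_of_dvd hk0 h2
    rcases hk5 with rfl | rfl
    · omega
    · have : p = 2 := by nlinarith
      exact ⟨rfl, this, rfl⟩
  · exfalso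
    obtain ⟨m, rfl⟩ : ∃ m, n = m + 6 := ⟨n - 6, by omega⟩
    have e1 : p ^ (m + 6 - 1) = p ^ 2 * p ^ (m + 3) := by
      rw [show m + 6 - 1 = 2 + (m + 3) by omega, pow_add]
    have h7 : 2 ^ (m + 3) ≤ p ^ (m + 3) := Nat.pow_le_pow_left hp2 _
    have h8 := l7_two_pow m
    have h9 : p ^ 2 * (m + 8) ≤ p ^ 2 * p ^ (m + 3) := Nat.mul_le_mul_left _ (le_trans h8 h7)
    have h10 : k * (p ^ 2 - 1) ≤ (m + 6) * (p ^ 2 - 1) := Nat.mul_le_mul_right _ hkle
    rw [e1] at hle
    obtain ⟨t, ht⟩ : ∃ t, p ^ 2 = t + 1 := ⟨p ^ 2 - 1, by omega⟩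
    rw [ht] at h9 hle h10
    simp only [Nat.add_sub_cancel] at hle h10
    have h11 : (t + 1) * (m + 8) = (m + 6) * t + (2 * t + m + 8) := by ring
    rw [h11] at h9
    generalize (t + 1) * p ^ (m + 3) = X at h9 hle
    generalize (m + 6) * t = Y at h9 h10
    omega


section
variable {V : Type*} [AddCommGroup V] [Finite V] {p n : ℕ} [Fact p.Prime]

theorem l7_nsmul_congr (hexp : ∀ v : V, p • v = 0) {a b : ℕ} (h : a ≡ b [MOD p]) (v : V) :
    a • v = b • v := by
  have hd : addOrderOf v ∣ p := addOrderOf_dvd_of_nsmul_eq_zero (hexp v)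
  exact nsmul_eq_nsmul_iff_modEq.2 (h.of_dvd hd)

theorem l7_modEq_of_nsmul_eq (hexp : ∀ v : V, p • v = 0) {v : V} (hv : v ≠ 0) {a b : ℕ}
    (h : a • v = b • v) : a ≡ b [MOD p] := by
  have hd : addOrderOf v = p := by
    have h1 : addOrderOf v ∣ p := addOrderOf_dvd_of_nsmul_eq_zero (hexp v)
    rcases (Nat.dvd_prime (Fact.out : p.Prime)).1 h1 with h2 | h2
    · exact absurd (AddMonoid.addOrderOf_eq_one_iff.1 h2) hv
    · exact h2
  rw [← hd]
  exact nsmul_eq_nsmul_iff_modEq.1 h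

variable {Γ : Type*} [Group Γ] [Finite Γ] [DistribMulAction Γ V]

theorem l7_card_group {v1 : V} (hv1 : v1 ≠ 0) (hcard : Nat.card V = p ^ n)
    (htrans : ∀ v w : V, v ≠ 0 → w ≠ 0 → ∃ g : Γ, g • v = w) :
    Nat.card Γ = (p ^ n - 1) * Nat.card (MulAction.stabilizer Γ v1) := by
  have horb : MulAction.orbit Γ v1 = ({0}ᶜ : Set V) := by
    ext w
    constructor
    · rintro ⟨g, rfl⟩
      simp only [Set.mem_compl_iff, Set.mem_singleton_iff]
      intro h
      exact hv1 ((smul_eq_zero_iff_eq g).1 h)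
    · intro hw
      obtain ⟨g, hg⟩ := htrans v1 w hv1 hw
      exact ⟨g, hg⟩
  have h1 : Nat.card (MulAction.orbit Γ v1) = p ^ n - 1 := by
    rw [horb, Nat.card_coe_set_eq, Set.ncard_compl, Set.ncard_singleton, hcard]
  have h2 := Subgroup.card_eq_card_quotient_mul_card_subgroup (MulAction.stabilizer Γ v1)
  rw [h2, ← Nat.card_congr (MulAction.orbitEquivQuotientStabilizer Γ v1), h1]

theorem l7_stab_dvd [FaithfulSMul Γ V] {F : Type*} [Field F] [Finite F] (e : V ≃+ F)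
    (hcard : Nat.card V = p ^ n) (hn : 1 ≤ n)
    (hsl : ∀ g : Γ, ∃ (a : F) (σ : F ≃+* F), ∀ v : V, e (g • v) = a * σ (e v)) :
    Nat.card (MulAction.stabilizer Γ (e.symm 1)) ∣ n := by
  have : Nontrivial V := by
    rw [← Finite.one_lt_card_iff_nontrivial, hcard]
    exact Nat.one_lt_pow (by omega) (Fact.out : p.Prime).one_lt
  obtain ⟨φ, a, hφ⟩ := exists_sigma_hom e hsl
  have hF : Nat.card F = p ^ n := by
    rw [← hcard]
    exact (Nat.card_congr e.toEquiv).symm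
  have hA : Nat.card (F ≃+* F) = n := card_ringAut hF
  let ψ : MulAction.stabilizer Γ (e.symm 1) →* (F ≃+* F) := φ.comp (Subgroup.subtype _)
  have hinj : Function.Injective ψ := by
    rw [injective_iff_map_eq_one]
    rintro ⟨g, hg⟩ hg1
    have hg' : g • e.symm 1 = e.symm 1 := hg
    have hφg : φ g = 1 := hg1
    have ha : (a g : F) = 1 := by
      have := hφ g (e.symm 1)
      rw [hg', e.apply_symm_apply, map_one, mul_one] at this
      exact this.symm
    apply Subtype.ext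
    show g = 1
    apply FaithfulSMul.eq_of_smul_eq_smul (α := V)
    intro v
    rw [one_smul]
    apply e.injective
    rw [hφ g v, ha, hφg, one_mul]
    rfl
  have := Subgroup.card_dvd_of_injective ψ hinj
  rwa [hA] at this

theorem l7_exists_Z [FaithfulSMul Γ V] (hexp : ∀ v : V, p • v = 0) (hcard : Nat.card V = p ^ n)
    (hn : 1 ≤ n) (hscal : ∀ c : ℕ, ¬ p ∣ c → ∃ g : Γ, ∀ v : V, g • v = c • v) :
    ∃ Z : Subgroup Γ, Nat.card Z = p - 1 ∧
      ∀ z ∈ Z, ∀ W : AddSubgroup V, ∀ w ∈ W, z • w ∈ W := by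
  have : Nontrivial V := by
    rw [← Finite.one_lt_card_iff_nontrivial, hcard]
    exact Nat.one_lt_pow (by omega) (Fact.out : p.Prime).one_lt
  obtain ⟨v1, hv1⟩ : ∃ v : V, v ≠ 0 := exists_ne 0
  obtain ⟨u0, hu0⟩ := IsCyclic.exists_generator (α := (ZMod p)ˣ)
  set c0 : ℕ := (u0 : ZMod p).val with hc0
  have hc0cast : ((c0 : ℕ) : ZMod p) = (u0 : ZMod p) := ZMod.natCast_zmod_val _
  have hndvd : ¬ p ∣ c0 := by
    rw [← ZMod.natCast_eq_zero_iff, hc0cast]
    exact Units.ne_zero u0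
  obtain ⟨g0, hg0⟩ := hscal c0 hndvd
  have hpow : ∀ j : ℕ, ∀ v : V, (g0 ^ j) • v = (c0 ^ j) • v := by
    intro j
    induction j with
    | zero =>
      intro v
      simp
    | succ j ih =>
      intro v
      rw [pow_succ, mul_smul, hg0, ih, pow_succ, mul_smul]
  refine ⟨Subgroup.zpowers g0, ?_, ?_⟩
  · rw [Nat.card_zpowers]
    have h1 : orderOf g0 = orderOf u0 := by
      rw [orderOf_eq_orderOf_iff]
      intro j
      constructor
      · intro h
        have h2 : (c0 ^ j) • v1 = 1 • v1 := by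
          rw [← hpow, h, one_smul, one_smul]
        have h3 := l7_modEq_of_nsmul_eq hexp hv1 h2
        have h4 : ((c0 ^ j : ℕ) : ZMod p) = ((1 : ℕ) : ZMod p) :=
          (ZMod.natCast_eq_natCast_iff _ _ _).2 h3
        apply Units.ext
        rw [Units.val_pow_eq_pow_val, Units.val_one, ← hc0cast]
        push_cast at h4
        exact h4
      · intro h
        apply FaithfulSMul.eq_of_smul_eq_smul (α := V)
        intro v
        rw [hpow, one_smul]
        have h4 : ((c0 ^ j : ℕ) : ZMod p) = ((1 : ℕ) : ZMod p) := by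
          push_cast
          rw [hc0cast, ← Units.val_pow_eq_pow_val, h, Units.val_one]
        have h3 := (ZMod.natCast_eq_natCast_iff _ _ _).1 h4
        rw [l7_nsmul_congr hexp h3 v, one_smul]
    rw [h1, orderOf_eq_card_of_forall_mem_zpowers hu0, Nat.card_eq_fintype_card, ZMod.card_units]
  · intro z hz W w hw
    obtain ⟨j, rfl⟩ := (Submonoid.mem_powers_iff z g0).1 (mem_powers_iff_mem_zpowers.2 hz)
    rw [hpow]
    exact W.nsmul_mem hw _

end

/-- L7: the counting core.  A faithful group `Γ` of semilinear maps of a field `F` of order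
`p ^ n` (`n ≥ 3`), read on an additive group `V` through `e : V ≃+ F`, which contains the prime-field
scalars and is transitive on the nonzero vectors and on the subgroups of order `p ^ 2`. -/
theorem semilinear_core {V : Type*} [AddCommGroup V] [Finite V] {p n : ℕ} [Fact p.Prime]
    (hexp : ∀ v : V, p • v = 0) (hcard : Nat.card V = p ^ n) (hn : 3 ≤ n)
    {Γ : Type*} [Group Γ] [Finite Γ] [DistribMulAction Γ V] [FaithfulSMul Γ V]
    {F : Type*} [Field F] [Finite F] (e : V ≃+ F)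
    (hsl : ∀ g : Γ, ∃ (a : F) (σ : F ≃+* F), ∀ v : V, e (g • v) = a * σ (e v))
    (htrans : ∀ v w : V, v ≠ 0 → w ≠ 0 → ∃ g : Γ, g • v = w)
    (hscal : ∀ c : ℕ, ¬ p ∣ c → ∃ g : Γ, ∀ v : V, g • v = c • v)
    (hplanes : ∀ W₁ W₂ : AddSubgroup V, Nat.card W₁ = p ^ 2 → Nat.card W₂ = p ^ 2 →
      ∃ g : Γ, ∀ v, v ∈ W₂ ↔ ∃ w ∈ W₁, g • w = v) :
    ∃ k : ℕ, Nat.card Γ = (p ^ n - 1) * k ∧ k ∣ n ∧ (n = 3 ∨ (n = 5 ∧ p = 2 ∧ k = 5)) := by
  have hp := (Fact.out : p.Prime)
  have hp2 : 2 ≤ p := hp.two_le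
  have hv1 : e.symm 1 ≠ 0 := by
    intro h
    have := congrArg e h
    rw [e.apply_symm_apply, map_zero] at this
    exact one_ne_zero this
  have hcg := l7_card_group (Γ := Γ) hv1 hcard htrans
  have hkn := l7_stab_dvd (Γ := Γ) e hcard (by omega) hsl
  refine ⟨Nat.card (MulAction.stabilizer Γ (e.symm 1)), hcg, hkn, ?_⟩
  obtain ⟨Z, hZcard, hZ⟩ := l7_exists_Z (Γ := Γ) hexp hcard (by omega) hscal
  have hL3 := card_planes hexp hcard
  generalize Nat.card (MulAction.stabilizer Γ (e.symm 1)) = k at hcg hkn ⊢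
  generalize hP : Nat.card {W : AddSubgroup V // Nat.card W = p ^ 2} = P at hL3
  have hpn : p ^ n = p * p ^ (n - 1) := by
    rw [← pow_succ']
    congr 1
    omega
  have hB1 : 2 ≤ p ^ (n - 1) := by
    calc 2 ≤ p := hp2
      _ = p ^ 1 := (pow_one p).symm
      _ ≤ p ^ (n - 1) := Nat.pow_le_pow_right hp.pos (by omega)
  have hB : 0 < p ^ (n - 1) - 1 := by omega
  have hA : 0 < p ^ n - 1 := by
    have : 2 ≤ p ^ n := by
      rw [hpn]
      nlinarith
    omega
  have e1 : p ^ n - p = p * (p ^ (n - 1) - 1) := by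
    rw [hpn, Nat.mul_sub, mul_one]
  have e2 : p ^ 2 - p = p * (p - 1) := by
    rw [Nat.mul_sub, mul_one, sq]
  have hL3' : P * ((p ^ 2 - 1) * (p - 1)) = (p ^ n - 1) * (p ^ (n - 1) - 1) := by
    rw [e1, e2] at hL3
    apply Nat.eq_of_mul_eq_mul_left hp.pos
    calc p * (P * ((p ^ 2 - 1) * (p - 1))) = P * ((p ^ 2 - 1) * (p * (p - 1))) := by ring
      _ = (p ^ n - 1) * (p * (p ^ (n - 1) - 1)) := hL3
      _ = p * ((p ^ n - 1) * (p ^ (n - 1) - 1)) := by ring
  have hPpos : 0 < P := by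
    rcases Nat.eq_zero_or_pos P with h | h
    · rw [h, zero_mul] at hL3'
      exact absurd hL3'.symm (Nat.mul_pos hA hB).ne'
    · exact h
  have hne : ∃ W : AddSubgroup V, Nat.card W = p ^ 2 := by
    rw [← hP] at hPpos
    obtain ⟨⟨W, hW⟩⟩ := (Nat.card_pos_iff.1 hPpos).1
    exact ⟨W, hW⟩
  have hL10 := card_subgroups_mul_dvd (p ^ 2) hne hplanes Z hZ
  rw [hZcard, hcg, hP] at hL10
  obtain ⟨m, hm⟩ := hL10
  apply l7_arith hp hn hkn
  refine ⟨m, ?_⟩
  apply Nat.eq_of_mul_eq_mul_left hA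
  calc (p ^ n - 1) * (k * (p ^ 2 - 1)) = ((p ^ n - 1) * k) * (p ^ 2 - 1) := by ring
    _ = (P * (p - 1) * m) * (p ^ 2 - 1) := by rw [hm]
    _ = (P * ((p ^ 2 - 1) * (p - 1))) * m := by ring
    _ = ((p ^ n - 1) * (p ^ (n - 1) - 1)) * m := by rw [hL3']
    _ = (p ^ n - 1) * ((p ^ (n - 1) - 1) * m) := by ring

end Cfsg.Agent.Lib.Helper55.SA
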