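import Mathlib

/-! # S4025 leaf L8 (helper79 for helper55): transport of the field model to the Galois field -/

set_option autoImplicit false
set_option linter.unusedSectionVars false
set_option linter.style.haveILetI false

namespace Cfsg.Agent.Lib.Helper55.SA

/-- a finite field with `p ^ n` elements has characteristic `p` -/
theorem l8_charP {F : Type*} [Field F] [Finite F] {p n : ℕ} [Fact p.Prime]
    (hF : Nat.card F = p ^ n) : CharP F p := by
  haveI : Fintype F := Fintype.ofFinite F
  obtain ⟨q, hq⟩ := CharP.exists F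
  obtain ⟨m, hqp, hm⟩ := FiniteField.card F q
  rw [Nat.card_eq_fintype_card, hm] at hF
  have h1 : q ∣ p ^ n := by
    rw [← hF]
    exact dvd_pow_self q m.ne_zero
  have h2 : q ∣ p := hqp.dvd_of_dvd_pow h1
  have h3 : q = p := (Nat.prime_dvd_prime_iff_eq hqp (Fact.out : p.Prime)).1 h2
  rw [← h3]
  exact hq

/-- L8: transport of the field model to the Galois field. -/
theorem exists_galoisField_model {V : Type*} [AddCommGroup V] [Finite V] {p n : ℕ} [Fact p.Prime]
    (hcard : Nat.card V = p ^ n) {F : Type*} [Field F] [Finite F] (e : V ≃+ F) :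
    ∃ e' : V ≃+ GaloisField p n, ∀ T : V → V,
      (∃ (a : F) (σ : F ≃+* F), ∀ v : V, e (T v) = a * σ (e v)) →
      ∃ (a : GaloisField p n) (σ : GaloisField p n ≃+* GaloisField p n),
        ∀ v : V, e' (T v) = a * σ (e' v) := by
  have hF : Nat.card F = p ^ n := by
    rw [← hcard]
    exact (Nat.card_congr e.toEquiv).symm
  haveI : CharP F p := l8_charP hF
  haveI : Fintype F := Fintype.ofFinite F
  letI : Algebra (ZMod p) F := ZMod.algebra F p
  let θ : F ≃+* GaloisField p n := (GaloisField.algEquivGaloisField p n hF).toRingEquiv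
  refine ⟨e.trans θ.toAddEquiv, ?_⟩
  rintro T ⟨a, σ, hT⟩
  refine ⟨θ a, θ.symm.trans (σ.trans θ), fun v => ?_⟩
  show θ (e (T v)) = θ a * θ (σ (θ.symm (θ (e v))))
  rw [hT v, map_mul, RingEquiv.symm_apply_apply]

end Cfsg.Agent.Lib.Helper55.SA
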