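import Mathlib
import Cfsg.Prelude.Def_Transfer
import Cfsg.Prelude.Def_CaseTheorems
import Cfsg.Prelude.Def_Perm
import Cfsg.Agent.Lib.Helper55.SA.L1
import Cfsg.Agent.Lib.Helper55.SA.L2
import Cfsg.Agent.Lib.Helper55.SA.L3
import Cfsg.Agent.Lib.Helper55.SA.L4
import Cfsg.Agent.Lib.Helper55.SA.L5
import Cfsg.Agent.Lib.Helper55.SA.L6
import Cfsg.Agent.Lib.Helper55.SA.L7
import Cfsg.Agent.Lib.Helper55.SA.L7p
import Cfsg.Agent.Lib.Helper55.SA.L8
import Cfsg.Agent.Lib.Helper55.SA.L9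
import Cfsg.Agent.Lib.Helper55.SA.L10

/-!
# S4025: the leaves (delivered by helper25, helper31, helper49, helper53, helper56, helper79)
-/
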