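import Mathlib
import Cfsg.Agent.Lib.Helper55.SA.Leaves

set_option autoImplicit false

/-!
# S4025: the linear core (Huppert + counting)
-/

namespace Cfsg.Agent.Lib.Helper55.SA

open Cfsg

universe u v

/-- The statement of Huppert's theorem (S3360), as a proposition. -/
def HuppertStmt : Prop :=
  ∀ (q : ℕ) [Fact q.Prime] {V : Type u} [AddCommGroup V] [Module (ZMod q) V] [Finite V]
    [Nontrivial V] {G : Type v} [Group G] [Finite G] (_ : Group.IsSolvable G)
    (ρ : G →* (V ≃ₗ[ZMod q] V)) (_ : Function.Injective ρ)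
    (_ : ∀ v w : V, v ≠ 0 → w ≠ 0 → ∃ g : G, ρ g v = w),
    (∃ (F : Type) (_ : Field F) (_ : Fintype F) (e : V ≃+ F),
        ∀ g : G, ∃ (a : F) (σ : F ≃+* F), ∀ v : V, e (ρ g v) = a * σ (e v)) ∨
    Nat.card V ∈ ({9, 25, 49, 121, 529, 81} : Set ℕ)

theorem prime_pow_eq {p q n m : ℕ} (hp : p.Prime) (hq : q.Prime) (hn : 0 < n)
    (h : p ^ n = q ^ m) : p = q ∧ n = m := by
  have h1 : p ∣ q ^ m := by
    rw [← h]; exact dvd_pow_self p hn.ne'
  have h2 : p = q := (Nat.prime_dvd_prime_iff_eq hp hq).1 (hp.dvd_of_dvd_pow h1)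
  subst h2
  exact ⟨rfl, Nat.pow_right_injective hp.two_le h⟩

/-- A distributive action on a `ZMod p`-module, as a linear representation. -/
noncomputable def linHom (p : ℕ) (V : Type u) [AddCommGroup V] [Module (ZMod p) V]
    (Γ : Type v) [Group Γ] [DistribMulAction Γ V] : Γ →* (V ≃ₗ[ZMod p] V) :=
  MonoidHom.mk'
    (fun g => { DistribMulAction.toAddEquiv V g with
      map_smul' := fun c x => ZMod.map_smul (DistribMulAction.toAddEquiv V g) c x })
    (by
      intro a b
      apply LinearEquiv.ext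
      intro v
      rw [LinearEquiv.mul_apply]
      exact mul_smul a b v)

theorem linHom_apply (p : ℕ) (V : Type u) [AddCommGroup V] [Module (ZMod p) V]
    (Γ : Type v) [Group Γ] [DistribMulAction Γ V] (g : Γ) (v : V) :
    linHom p V Γ g v = g • v := rfl

theorem linear_core (Hup : HuppertStmt.{u, v}) {V : Type u} [AddCommGroup V] [Finite V]
    {p n : ℕ} [hp : Fact p.Prime]
    (hexp : ∀ v : V, p • v = 0) (hcard : Nat.card V = p ^ n) (hn : 3 ≤ n)
    {Γ : Type v} [Group Γ] [Finite Γ] [DistribMulAction Γ V] [FaithfulSMul Γ V]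
    (hsol : Group.IsSolvable Γ)
    (htrans : ∀ v w : V, v ≠ 0 → w ≠ 0 → ∃ g : Γ, g • v = w)
    (hscal : ∀ c : ℕ, ¬ p ∣ c → ∃ g : Γ, ∀ v : V, g • v = c • v)
    (hplanes : ∀ W₁ W₂ : AddSubgroup V, Nat.card W₁ = p ^ 2 → Nat.card W₂ = p ^ 2 →
      ∃ g : Γ, ∀ v, v ∈ W₂ ↔ ∃ w ∈ W₁, g • w = v) :
    ∃ (e : V ≃+ GaloisField p n) (φ : Γ →* (GaloisField p n ≃+* GaloisField p n))
      (a : Γ → (GaloisField p n)ˣ),
      (∀ (g : Γ) (v : V), e (g • v) = (a g : GaloisField p n) * φ g (e v)) ∧
      ∃ k : ℕ, Nat.card Γ = (p ^ n - 1) * k ∧ k ∣ n ∧ (n = 3 ∨ (n = 5 ∧ p = 2 ∧ k = 5)) := by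
  classical
  obtain ⟨instMod⟩ : Nonempty (Module (ZMod p) V) := ⟨AddCommGroup.zmodModule hexp⟩
  haveI : Nontrivial V := by
    apply (Finite.one_lt_card_iff_nontrivial).1
    rw [hcard]
    exact Nat.one_lt_pow (by omega) hp.out.one_lt
  let ρ : Γ →* (V ≃ₗ[ZMod p] V) := linHom p V Γ
  have hρ : ∀ g v, ρ g v = g • v := fun g v => rfl
  have hinj : Function.Injective ρ := by
    intro g h hgh
    apply FaithfulSMul.eq_of_smul_eq_smul (α := V)
    intro v
    have := congrArg (fun f => f v) hgh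
    simpa [hρ] using this
  rcases Hup p hsol ρ hinj (by simpa [hρ] using htrans) with ⟨F, _, _, e, hsl⟩ | h81
  · obtain ⟨e', he'⟩ := exists_galoisField_model (p := p) (n := n) hcard e
    have hsl' : ∀ g : Γ, ∃ (a : GaloisField p n) (σ : GaloisField p n ≃+* GaloisField p n),
        ∀ v, e' (g • v) = a * σ (e' v) := fun g => he' (fun v => g • v) (hsl g)
    obtain ⟨φ, a, hφ⟩ := exists_sigma_hom e' hsl'
    obtain ⟨k, hk⟩ := semilinear_core hexp hcard hn e' hsl' htrans hscal hplanes
    exact ⟨e', φ, a, hφ, k, hk⟩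
  · exfalso
    rw [hcard] at h81
    simp only [Set.mem_insert_iff, Set.mem_singleton_iff] at h81
    have h3 : 0 < n := by omega
    rcases h81 with h | h | h | h | h | h
    · have := prime_pow_eq (q := 3) (m := 2) hp.out (by norm_num) h3 (by rw [h]; norm_num)
      omega
    · have := prime_pow_eq (q := 5) (m := 2) hp.out (by norm_num) h3 (by rw [h]; norm_num)
      omega
    · have := prime_pow_eq (q := 7) (m := 2) hp.out (by norm_num) h3 (by rw [h]; norm_num)
      omega
    · have := prime_pow_eq (q := 11) (m := 2) hp.out (by norm_num) h3 (by rw [h]; norm_num)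
      omega
    · have := prime_pow_eq (q := 23) (m := 2) hp.out (by norm_num) h3 (by rw [h]; norm_num)
      omega
    · obtain ⟨h1, h2⟩ :=
        prime_pow_eq (q := 3) (m := 4) hp.out (by norm_num) h3 (by rw [h]; norm_num)
      subst h1
      subst h2
      have hpl := card_planes (p := 3) (n := 4) hexp hcard
      have hpl' : Nat.card {W : AddSubgroup V // Nat.card W = 3 ^ 2} = 130 := by
        have e1 : ((3 : ℕ) ^ 2 - 1) * (3 ^ 2 - 3) = 48 := by norm_num
        have e2 : ((3 : ℕ) ^ 4 - 1) * (3 ^ 4 - 3) = 130 * 48 := by norm_num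
        rw [e1, e2] at hpl
        exact Nat.eq_of_mul_eq_mul_right (by norm_num) hpl
      have hne : ∃ W : AddSubgroup V, Nat.card W = 3 ^ 2 := by
        by_contra hcon
        push Not at hcon
        haveI : IsEmpty {W : AddSubgroup V // Nat.card W = 3 ^ 2} := ⟨fun W => hcon W.1 W.2⟩
        rw [Nat.card_of_isEmpty] at hpl'
        omega
      have hdvd := card_subgroups_mul_dvd (Γ := Γ) (3 ^ 2) hne hplanes ⊥ (by
        intro z hz W w hw
        rw [Subgroup.mem_bot] at hz
        subst hz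
        simpa using hw)
      rw [hpl', Subgroup.card_bot, mul_one] at hdvd
      exact false_of_81 (H := Γ) (V := V) (by rw [hcard]; norm_num) hsol
        (dvd_trans (by norm_num) hdvd) (dvd_trans (by norm_num) hdvd)

end Cfsg.Agent.Lib.Helper55.SA
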