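import Mathlib
import Cfsg.Agent.Lib.Helper55.SA.Main

set_option autoImplicit false

/-!
# S4025: from the group to the linear core
-/

namespace Cfsg.Agent.Lib.Helper55.SA

open Cfsg
open scoped IsMulCommutative

universe u

section QV

variable {M : Type u} [Group M]

/-- A commutative normal subgroup, written additively, with the conjugation action. -/
def QV (Q : Subgroup M) : Type u := Additive Q

variable (Q : Subgroup M)

/-- The element of `QV Q` attached to an element of `Q`. -/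
def QV.of : Q ≃ QV Q := Additive.ofMul

instance [Finite M] : Finite (QV Q) := Finite.of_equiv Q (QV.of Q)

variable [IsMulCommutative Q]

noncomputable instance : AddCommGroup (QV Q) := inferInstanceAs (AddCommGroup (Additive Q))

theorem QV.of_mul (x y : Q) : QV.of Q (x * y) = QV.of Q x + QV.of Q y := rfl

theorem QV.of_one : QV.of Q 1 = 0 := rfl

theorem QV.of_inv (x : Q) : QV.of Q x⁻¹ = - QV.of Q x := rfl

theorem QV.of_pow (x : Q) (k : ℕ) : QV.of Q (x ^ k) = k • QV.of Q x := rfl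

theorem QV.of_zpow (x : Q) (k : ℤ) : QV.of Q (x ^ k) = k • QV.of Q x := rfl

theorem QV.of_eq_zero {x : Q} : QV.of Q x = 0 ↔ x = 1 := Iff.rfl

variable [Q.Normal]

noncomputable instance : DistribMulAction M (QV Q) where
  smul m v := QV.of Q (MulAut.conjNormal m ((QV.of Q).symm v))
  one_smul v := by
    show QV.of Q (MulAut.conjNormal (1 : M) ((QV.of Q).symm v)) = v
    rw [map_one]; rfl
  mul_smul a b v := by
    show QV.of Q (MulAut.conjNormal (a * b) ((QV.of Q).symm v)) =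
      QV.of Q (MulAut.conjNormal a ((QV.of Q).symm
        (QV.of Q (MulAut.conjNormal b ((QV.of Q).symm v)))))
    rw [map_mul]; rfl
  smul_zero m := by
    show QV.of Q (MulAut.conjNormal m 1) = 0
    rw [map_one]; rfl
  smul_add m v w := by
    show QV.of Q (MulAut.conjNormal m ((QV.of Q).symm v * (QV.of Q).symm w)) = _
    rw [map_mul]; rfl

theorem QV.smul_of (m : M) (x : Q) : m • QV.of Q x = QV.of Q (MulAut.conjNormal m x) := rfl

/-- The subgroup of `M` attached to a subgroup of `QV Q`. -/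
def QV.sub (W : AddSubgroup (QV Q)) : Subgroup M where
  carrier := {x | ∃ h : x ∈ Q, QV.of Q ⟨x, h⟩ ∈ W}
  one_mem' := ⟨Q.one_mem, W.zero_mem⟩
  mul_mem' := by
    rintro a b ⟨ha, ha'⟩ ⟨hb, hb'⟩
    exact ⟨Q.mul_mem ha hb, W.add_mem ha' hb'⟩
  inv_mem' := by
    rintro a ⟨ha, ha'⟩
    exact ⟨Q.inv_mem ha, W.neg_mem ha'⟩

theorem QV.mem_sub {W : AddSubgroup (QV Q)} {x : M} :
    x ∈ QV.sub Q W ↔ ∃ h : x ∈ Q, QV.of Q ⟨x, h⟩ ∈ W := Iff.rfl

theorem QV.coe_mem_sub {W : AddSubgroup (QV Q)} {y : Q} :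
    (y : M) ∈ QV.sub Q W ↔ QV.of Q y ∈ W :=
  ⟨fun ⟨_, h⟩ => h, fun h => ⟨y.2, h⟩⟩

theorem QV.sub_le (W : AddSubgroup (QV Q)) : QV.sub Q W ≤ Q := fun _ hx => hx.1

theorem QV.card_sub (W : AddSubgroup (QV Q)) : Nat.card (QV.sub Q W) = Nat.card W := by
  apply Nat.card_congr
  refine ⟨fun x => ⟨QV.of Q ⟨x.1, x.2.1⟩, x.2.2⟩,
    fun v => ⟨((QV.of Q).symm v.1 : M), ⟨((QV.of Q).symm v.1).2, ?_⟩⟩, ?_, ?_⟩
  · simpa using v.2
  · intro x; rfl
  · intro v; rfl

end QV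

theorem nsmul_mod' {V : Type*} [AddCommGroup V] {p : ℕ} (hexp : ∀ v : V, p • v = 0) (c : ℕ)
    (v : V) : (c % p) • v = c • v := by
  conv_rhs => rw [← Nat.mod_add_div c p]
  rw [add_smul, mul_smul, hexp, add_zero]

/-- The scalars of the prime field as additive automorphisms. -/
noncomputable def scalHom {V : Type*} [AddCommGroup V] {p : ℕ} (hexp : ∀ v : V, p • v = 0) :
    (ZMod p)ˣ →* (V ≃ₗ[ℤ] V) :=
  letI := AddCommGroup.zmodModule hexp
  DistribMulAction.toModuleAut ℤ V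

theorem scalHom_apply {V : Type*} [AddCommGroup V] {p : ℕ} [NeZero p]
    (hexp : ∀ v : V, p • v = 0) (c : (ZMod p)ˣ) (v : V) :
    scalHom hexp c v = (c : ZMod p).val • v := by
  letI := AddCommGroup.zmodModule hexp
  show (c • v : V) = _
  rw [Units.smul_def, ← Nat.cast_smul_eq_nsmul (ZMod p), ZMod.natCast_zmod_val]

theorem stage1 {M : Type u} [Group M] [Finite M] {p : ℕ} [hp : Fact p.Prime]
    (Q : Subgroup M) [Q.Normal] [IsMulCommutative Q]
    (hQexp : ∀ x ∈ Q, x ^ p = 1)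
    (hKc : Cfsg.pPrimeCore p M ≤ Subgroup.centralizer (Q : Set M))
    (hsolv : Group.IsSolvable (M ⧸ Cfsg.pPrimeCore p M))
    (htr : ∀ W₁ W₂ : Subgroup M, W₁ ≤ Q → W₂ ≤ Q → Nat.card W₁ = Nat.card W₂ →
      ∃ m : M, W₂ = W₁.map (MulAut.conj m).toMonoidHom) :
    ∃ Γ : Subgroup (QV Q ≃ₗ[ℤ] QV Q), Group.IsSolvable Γ ∧
      (∀ m : M, DistribMulAction.toModuleAut ℤ (QV Q) m ∈ Γ) ∧
      (p = 2 → ∀ γ ∈ Γ, ∃ m : M, γ = DistribMulAction.toModuleAut ℤ (QV Q) m) ∧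
      (∀ v w : QV Q, v ≠ 0 → w ≠ 0 → ∃ g : Γ, g • v = w) ∧
      (∀ c : ℕ, ¬ p ∣ c → ∃ g : Γ, ∀ v : QV Q, g • v = c • v) ∧
      (∀ W₁ W₂ : AddSubgroup (QV Q), Nat.card W₁ = p ^ 2 → Nat.card W₂ = p ^ 2 →
        ∃ g : Γ, ∀ v, v ∈ W₂ ↔ ∃ w ∈ W₁, g • w = v) := by
  classical
  haveI : NeZero p := ⟨hp.out.ne_zero⟩
  have hexpV : ∀ v : QV Q, p • v = 0 := by
    intro v
    obtain ⟨x, rfl⟩ := (QV.of Q).surjective v
    rw [← QV.of_pow, QV.of_eq_zero]
    exact Subtype.ext (by simpa using hQexp x x.2)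
  let ρ₀ : M →* (QV Q ≃ₗ[ℤ] QV Q) := DistribMulAction.toModuleAut ℤ (QV Q)
  have hρ₀ : ∀ m v, ρ₀ m v = m • v := fun m v => rfl
  have hKker : Cfsg.pPrimeCore p M ≤ ρ₀.ker := by
    intro x hx
    rw [MonoidHom.mem_ker]
    apply LinearEquiv.ext
    intro v
    obtain ⟨y, rfl⟩ := (QV.of Q).surjective v
    rw [hρ₀, QV.smul_of]
    show QV.of Q _ = QV.of Q y
    congr 1
    apply Subtype.ext
    rw [MulAut.conjNormal_apply]
    have h1 := hKc hx
    rw [Subgroup.mem_centralizer_iff] at h1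
    have h2 := h1 y y.2
    rw [← h2, mul_inv_cancel_right]
  let ρb : M ⧸ Cfsg.pPrimeCore p M →* (QV Q ≃ₗ[ℤ] QV Q) :=
    QuotientGroup.lift (Cfsg.pPrimeCore p M) ρ₀ hKker
  have hρb : ∀ m : M, ρb (QuotientGroup.mk m) = ρ₀ m := fun m => rfl
  let scal : (ZMod p)ˣ →* (QV Q ≃ₗ[ℤ] QV Q) := scalHom hexpV
  have hscalv : ∀ c v, scal c v = (c : ZMod p).val • v := fun c v => scalHom_apply hexpV c v
  have comm : ∀ x c, Commute (ρb x) (scal c) := by
    intro x c
    apply LinearEquiv.ext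
    intro v
    rw [LinearEquiv.mul_apply, LinearEquiv.mul_apply, hscalv, hscalv, map_nsmul]
  let Φ := MonoidHom.noncommCoprod ρb scal comm
  have hΦ : ∀ (m : M) (c : (ZMod p)ˣ) (v : QV Q),
      Φ (QuotientGroup.mk m, c) v = m • ((c : ZMod p).val • v) := by
    intro m c v
    show (MonoidHom.noncommCoprod ρb scal comm) (QuotientGroup.mk m, c) v = _
    rw [MonoidHom.noncommCoprod_apply, LinearEquiv.mul_apply, hscalv, hρb, hρ₀]
  have hscal' : ∀ (m : M) (c : ℕ), ¬ p ∣ c →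
      ∃ g : Φ.range, ∀ v : QV Q, g • v = m • (c • v) := by
    intro m c hc
    have hcop : Nat.Coprime c p := ((Nat.Prime.coprime_iff_not_dvd hp.out).2 hc).symm
    refine ⟨⟨Φ (QuotientGroup.mk m, ZMod.unitOfCoprime c hcop), ⟨_, rfl⟩⟩, fun v => ?_⟩
    show Φ (QuotientGroup.mk m, ZMod.unitOfCoprime c hcop) v = _
    rw [hΦ, ZMod.coe_unitOfCoprime, ZMod.val_natCast, nsmul_mod' hexpV]
  have hmem : ∀ m : M, ρ₀ m ∈ Φ.range := by
    intro m
    refine ⟨(QuotientGroup.mk m, 1), ?_⟩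
    show (MonoidHom.noncommCoprod ρb scal comm) (QuotientGroup.mk m, 1) = _
    rw [MonoidHom.noncommCoprod_apply]
    show ρb (QuotientGroup.mk m) * scal 1 = ρ₀ m
    rw [map_one, mul_one, hρb]
  refine ⟨Φ.range, ?_, hmem, ?_, ?_, ?_, ?_⟩
  · haveI := hsolv
    exact Group.isSolvable_of_surjective Φ.rangeRestrict_surjective
  · rintro rfl γ ⟨⟨x, c⟩, rfl⟩
    obtain ⟨m, rfl⟩ := QuotientGroup.mk_surjective x
    refine ⟨m, ?_⟩
    have hc : c = 1 := Subsingleton.elim _ _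
    subst hc
    show (MonoidHom.noncommCoprod ρb scal comm) (QuotientGroup.mk m, 1) = _
    rw [MonoidHom.noncommCoprod_apply]
    show ρb (QuotientGroup.mk m) * scal 1 = ρ₀ m
    rw [map_one, mul_one, hρb]
  · intro v w hv hw
    obtain ⟨x, rfl⟩ := (QV.of Q).surjective v
    obtain ⟨y, rfl⟩ := (QV.of Q).surjective w
    have hx1 : (x : M) ≠ 1 := fun h => hv ((QV.of_eq_zero Q).2 (Subtype.ext h))
    have hy1 : (y : M) ≠ 1 := fun h => hw ((QV.of_eq_zero Q).2 (Subtype.ext h))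
    have hox : orderOf (x : M) = p := orderOf_eq_prime (hQexp x x.2) hx1
    have hoy : orderOf (y : M) = p := orderOf_eq_prime (hQexp y y.2) hy1
    obtain ⟨m, hm⟩ := htr (Subgroup.zpowers (x : M)) (Subgroup.zpowers (y : M))
      (by rw [Subgroup.zpowers_le]; exact x.2) (by rw [Subgroup.zpowers_le]; exact y.2)
      (by rw [Nat.card_zpowers, Nat.card_zpowers, hox, hoy])
    have hy : (y : M) ∈ (Subgroup.zpowers (x : M)).map (MulAut.conj m).toMonoidHom := by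
      rw [← hm]; exact Subgroup.mem_zpowers _
    obtain ⟨z, hz, hzy⟩ := hy
    rw [SetLike.mem_coe, ← mem_powers_iff_mem_zpowers] at hz
    obtain ⟨k, hkz⟩ := hz
    have hkz' : (x : M) ^ k = z := hkz
    subst hkz'
    have hk : ¬ p ∣ k := by
      intro hpk
      apply hy1
      rw [← hzy]
      obtain ⟨j, rfl⟩ := hpk
      rw [pow_mul, hQexp x x.2, one_pow, map_one]
    obtain ⟨g, hg⟩ := hscal' m k hk
    refine ⟨g, ?_⟩
    rw [hg, ← QV.of_pow, QV.smul_of]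
    congr 1
    apply Subtype.ext
    rw [MulAut.conjNormal_apply]
    simpa using hzy
  · intro c hc
    obtain ⟨g, hg⟩ := hscal' 1 c hc
    exact ⟨g, fun v => by rw [hg, one_smul]⟩
  · intro W₁ W₂ h1 h2
    obtain ⟨m, hm⟩ := htr (QV.sub Q W₁) (QV.sub Q W₂) (QV.sub_le Q W₁) (QV.sub_le Q W₂)
      (by rw [QV.card_sub, QV.card_sub, h1, h2])
    refine ⟨⟨ρ₀ m, hmem m⟩, fun v => ?_⟩
    obtain ⟨y, rfl⟩ := (QV.of Q).surjective v
    rw [← QV.coe_mem_sub, hm]
    constructor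
    · rintro ⟨z, hz, hzy⟩
      obtain ⟨hzQ, hzW⟩ := hz
      refine ⟨QV.of Q ⟨z, hzQ⟩, hzW, ?_⟩
      show m • QV.of Q ⟨z, hzQ⟩ = _
      rw [QV.smul_of]
      congr 1
      apply Subtype.ext
      rw [MulAut.conjNormal_apply]
      simpa using hzy
    · rintro ⟨w, hw, hwy⟩
      obtain ⟨z, rfl⟩ := (QV.of Q).surjective w
      refine ⟨(z : M), (QV.coe_mem_sub Q).2 hw, ?_⟩
      have h3 : m • QV.of Q z = QV.of Q y := hwy
      rw [QV.smul_of] at h3
      have h4 := congrArg Subtype.val ((QV.of Q).injective h3)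
      rw [MulAut.conjNormal_apply] at h4
      simpa using h4

end Cfsg.Agent.Lib.Helper55.SA
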