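import Mathlib
import Cfsg.Agent.Lib.Helper55.SA.Group

set_option autoImplicit false

/-!
# S4025: the abstract main theorem
-/

namespace Cfsg.Agent.Lib.Helper55.SA

open Cfsg
open scoped IsMulCommutative

universe u

theorem quot_hom_of_ker {M H : Type*} [Group M] [Group H] (K : Subgroup M) [K.Normal]
    (f : M →* H) (hK : K = f.ker) :
    ∃ g : M ⧸ K →* H, Function.Injective g ∧ ∀ m : M, g (QuotientGroup.mk m) = f m := by
  subst hK
  exact ⟨QuotientGroup.kerLift f, QuotientGroup.kerLift_injective f, fun m => rfl⟩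

theorem quot_iso_of_ker {M H : Type*} [Group M] [Group H] (K : Subgroup M) [K.Normal]
    (f : M →* H) (hK : K = f.ker) (S : Subgroup H) (hS : ∀ m, f m ∈ S)
    (hsurj : ∀ s ∈ S, ∃ m, f m = s) : Nonempty (M ⧸ K ≃* S) := by
  have hK' : K = (f.codRestrict S hS).ker := by rw [MonoidHom.ker_codRestrict]; exact hK
  obtain ⟨g, hg, hgm⟩ := quot_hom_of_ker K (f.codRestrict S hS) hK'
  refine ⟨MulEquiv.ofBijective g ⟨hg, ?_⟩⟩
  rintro ⟨s, hs⟩
  obtain ⟨m, rfl⟩ := hsurj s hs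
  exact ⟨QuotientGroup.mk m, by rw [hgm]; rfl⟩

theorem core_abstract (Hup : HuppertStmt.{u, u}) {M : Type u} [Group M] [Finite M] {p n : ℕ}
    [hp : Fact p.Prime] (hn : 3 ≤ n) (Q : Subgroup M) [Q.Normal] (hQcard : Nat.card Q = p ^ n)
    [hQab : IsMulCommutative Q] (hQexp : ∀ x ∈ Q, x ^ p = 1) (hQi : ¬ p ∣ Q.index)
    (hsolv : Group.IsSolvable (M ⧸ Cfsg.pPrimeCore p M))
    (htr : ∀ W₁ W₂ : Subgroup M, W₁ ≤ Q → W₂ ≤ Q → Nat.card W₁ = Nat.card W₂ →
      ∃ m : M, W₂ = W₁.map (MulAut.conj m).toMonoidHom) :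
    ∃ k : ℕ, k ∣ n ∧ (n = 3 ∨ (n = 5 ∧ p = 2 ∧ k = 5)) ∧
      (∃ f : M ⧸ Cfsg.pPrimeCore p M →* ↥(Cfsg.semiaffineGroup (GaloisField p n)),
        Function.Injective f) ∧
      (p = 2 → k = n →
        Nonempty (M ⧸ Cfsg.pPrimeCore p M ≃* Cfsg.semiaffineGroup (GaloisField p n))) ∧
      (p = 2 → n = 3 → k = 1 →
        Nonempty (M ⧸ Cfsg.pPrimeCore p M ≃* Cfsg.affineGroup (GaloisField p n))) := by
  classical
  have hQab' : ∀ x ∈ Q, ∀ y ∈ Q, x * y = y * x := by
    intro x hx y hy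
    exact congrArg Subtype.val (mul_comm' (⟨x, hx⟩ : Q) ⟨y, hy⟩)
  have hQp : IsPGroup p Q := IsPGroup.of_card hQcard
  have hcop : (Nat.card Q).Coprime Q.index := by
    rw [hQcard]
    exact Nat.Coprime.pow_left n ((Nat.Prime.coprime_iff_not_dvd hp.out).2 hQi)
  obtain ⟨L, hL⟩ := Subgroup.exists_right_complement'_of_coprime hcop
  obtain ⟨hK1, hK2, hK3⟩ := pPrimeCore_eq_normalCore Q hQp hQab' hQi L hL
  have hKc : Cfsg.pPrimeCore p M ≤ Subgroup.centralizer (Q : Set M) := by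
    rw [hK3]; exact le_sup_right
  obtain ⟨Γ, hsolΓ, hmemΓ, hp2Γ, htransΓ, hscalΓ, hplanesΓ⟩ := stage1 Q hQexp hKc hsolv htr
  have hexpV : ∀ v : QV Q, p • v = 0 := by
    intro v
    obtain ⟨x, rfl⟩ := (QV.of Q).surjective v
    rw [← QV.of_pow, QV.of_eq_zero]
    exact Subtype.ext (by simpa using hQexp x x.2)
  have hcardV : Nat.card (QV Q) = p ^ n := by
    rw [← hQcard]; exact Nat.card_congr (QV.of Q).symm
  haveI : Finite (QV Q ≃ₗ[ℤ] QV Q) :=
    Finite.of_injective (fun f => (f : QV Q → QV Q)) DFunLike.coe_injective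
  obtain ⟨e, φ, a, hφ, k, hk1, hk2, hk3⟩ :=
    linear_core Hup hexpV hcardV hn (Γ := Γ) hsolΓ htransΓ hscalΓ hplanesΓ
  let ε : Q ≃ GaloisField p n := (QV.of Q).trans e.toEquiv
  have hε : ∀ x y : Q, ε (x * y) = ε x + ε y := by
    intro x y
    show e (QV.of Q (x * y)) = e (QV.of Q x) + e (QV.of Q y)
    rw [QV.of_mul, map_add]
  have hεsymm : ∀ x : GaloisField p n, QV.of Q (ε.symm x) = e.symm x := fun x => rfl
  obtain ⟨f, hfker, hf⟩ := exists_perm_hom Q L hL ε hε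
  -- the element of `Γ` attached to an element of `M`
  let γ : M → Γ := fun m => ⟨DistribMulAction.toModuleAut ℤ (QV Q) m, hmemΓ m⟩
  have hγ : ∀ (m : M) (v : QV Q), γ m • v = m • v := fun m v => rfl
  have hQtriv : ∀ (q : Q) (v : QV Q), (q : M) • v = v := by
    intro q v
    obtain ⟨y, rfl⟩ := (QV.of Q).surjective v
    rw [QV.smul_of]
    congr 1
    apply Subtype.ext
    rw [MulAut.conjNormal_apply, hQab' q q.2 y y.2, mul_inv_cancel_right]
  have hf' : ∀ (q : Q) (l : L) (x : GaloisField p n),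
      f ((q : M) * (l : M)) x = (a (γ l) : GaloisField p n) * φ (γ l) x + ε q := by
    intro q l x
    rw [hf, add_comm]
    congr 1
    show e (QV.of Q (MulAut.conjNormal (l : M) (ε.symm x))) = _
    rw [← QV.smul_of, hεsymm, ← hγ, hφ, AddEquiv.apply_symm_apply]
  have hdecomp : ∀ m : M, ∃ (q : Q) (l : L), m = (q : M) * (l : M) := by
    intro m
    obtain ⟨⟨q, l⟩, hql, -⟩ := (Subgroup.isComplement'_def.1 hL).existsUnique m
    exact ⟨q, l, hql.symm⟩
  have hA : ∀ m : M, f m ∈ Cfsg.semiaffineGroup (GaloisField p n) := by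
    intro m
    obtain ⟨q, l, rfl⟩ := hdecomp m
    exact ⟨a (γ l), ε q, φ (γ l), fun x => hf' q l x⟩
  have hKf : Cfsg.pPrimeCore p M = f.ker := by rw [hfker, hK1]
  have hFcard : Nat.card (GaloisField p n) = p ^ n := GaloisField.card p n (by omega)
  have hUcard : Nat.card (GaloisField p n)ˣ = p ^ n - 1 := by rw [Nat.card_units, hFcard]
  have hAcard : Nat.card (GaloisField p n ≃+* GaloisField p n) = n := card_ringAut hFcard
  haveI : Finite (GaloisField p n ≃+* GaloisField p n) :=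
    Finite.of_injective (fun f => (f : GaloisField p n → GaloisField p n)) DFunLike.coe_injective
  -- injectivity of `γ ↦ (a γ, φ γ)`
  have hjinj : ∀ g₁ g₂ : Γ, a g₁ = a g₂ → φ g₁ = φ g₂ → g₁ = g₂ := by
    intro g₁ g₂ h1 h2
    apply Subtype.ext
    apply LinearEquiv.ext
    intro v
    apply e.injective
    have e1 := hφ g₁ v
    have e2 := hφ g₂ v
    rw [h1, h2] at e1
    exact e1.trans e2.symm
  -- when `p = 2`, every element of `Γ` comes from `L`
  have hΓL : p = 2 → ∀ g : Γ, ∃ l : L, g = γ l := by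
    intro hp2 g
    obtain ⟨m, hm⟩ := hp2Γ hp2 g.1 g.2
    obtain ⟨q, l, rfl⟩ := hdecomp m
    refine ⟨l, Subtype.ext ?_⟩
    rw [hm]
    apply LinearEquiv.ext
    intro v
    show ((q : M) * (l : M)) • v = (l : M) • v
    rw [mul_smul, hQtriv]
  refine ⟨k, hk2, hk3, ?_, ?_, ?_⟩
  · obtain ⟨g, hg, -⟩ := quot_hom_of_ker (Cfsg.pPrimeCore p M)
      (f.codRestrict (Cfsg.semiaffineGroup (GaloisField p n)) hA)
      (by rw [MonoidHom.ker_codRestrict]; exact hKf)
    exact ⟨g, hg⟩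
  · intro hp2 hkn
    apply quot_iso_of_ker (Cfsg.pPrimeCore p M) f hKf _ hA
    rintro σ ⟨a₀, b₀, φ₀, hσ⟩
    have hbij : Function.Bijective (fun g : Γ => (a g, φ g)) := by
      apply Function.Injective.bijective_of_nat_card_le
      · intro g₁ g₂ h
        exact hjinj g₁ g₂ (congrArg Prod.fst h) (congrArg Prod.snd h)
      · rw [Nat.card_prod, hUcard, hAcard, hk1, hkn]
    obtain ⟨g, hg⟩ := hbij.2 (a₀, φ₀)
    obtain ⟨l, rfl⟩ := hΓL hp2 g
    have hg1 : a (γ l) = a₀ := congrArg Prod.fst hg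
    have hg2 : φ (γ l) = φ₀ := congrArg Prod.snd hg
    refine ⟨((ε.symm b₀ : Q) : M) * (l : M), Equiv.ext fun x => ?_⟩
    rw [hf', hσ, hg1, hg2, Equiv.apply_symm_apply]
  · intro hp2 hn3 hk1'
    have hΓcard : Nat.card Γ = 7 := by
      rw [hk1, hk1', hp2, hn3]; norm_num
    have hφtriv : ∀ g : Γ, φ g = 1 := by
      intro g
      have h1 : orderOf (φ g) ∣ 7 := by
        rw [← hΓcard]
        exact (orderOf_map_dvd φ g).trans (orderOf_dvd_natCard g)
      have h2 : orderOf (φ g) ∣ 3 := by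
        have h := orderOf_dvd_natCard (φ g)
        rw [hAcard] at h
        exact h.trans (by rw [hn3])
      have h3 : orderOf (φ g) ∣ Nat.gcd 7 3 := Nat.dvd_gcd h1 h2
      have h4 : orderOf (φ g) = 1 := by
        have : Nat.gcd 7 3 = 1 := by norm_num
        rw [this] at h3
        exact Nat.dvd_one.1 h3
      exact orderOf_eq_one_iff.1 h4
    have hB : ∀ m : M, f m ∈ Cfsg.affineGroup (GaloisField p n) := by
      intro m
      obtain ⟨q, l, rfl⟩ := hdecomp m
      refine ⟨a (γ l), ε q, fun x => ?_⟩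
      rw [hf', hφtriv]
      rfl
    apply quot_iso_of_ker (Cfsg.pPrimeCore p M) f hKf _ hB
    rintro σ ⟨a₀, b₀, hσ⟩
    have hbij : Function.Bijective (fun g : Γ => a g) := by
      apply Function.Injective.bijective_of_nat_card_le
      · intro g₁ g₂ h
        exact hjinj g₁ g₂ h (by rw [hφtriv, hφtriv])
      · rw [hUcard, hΓcard, hp2, hn3]; norm_num
    obtain ⟨g, hg⟩ := hbij.2 a₀
    obtain ⟨l, rfl⟩ := hΓL hp2 g
    have hg1 : a (γ l) = a₀ := hg
    refine ⟨((ε.symm b₀ : Q) : M) * (l : M), Equiv.ext fun x => ?_⟩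
    rw [hf', hσ, hg1, hφtriv, Equiv.apply_symm_apply]
    rfl

end Cfsg.Agent.Lib.Helper55.SA
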