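import Mathlib

/-! # S4025 leaf L9 (helper79 for helper55): the coset action of `M = Q ⋊ L` on `M ⧸ L ≃ Q ≃ F` -/

set_option autoImplicit false
set_option linter.unusedSectionVars false
set_option linter.style.haveILetI false

namespace Cfsg.Agent.Lib.Helper55.SA

/-- the map `Q → M ⧸ L` is a bijection when `L` is a complement of `Q` -/
theorem l9_bijective {M : Type*} [Group M] (Q L : Subgroup M)
    (hL : Subgroup.IsComplement' Q L) :
    Function.Bijective (fun y : Q => ((y : M) : M ⧸ L)) := by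
  constructor
  · intro y₁ y₂ h
    have h1 : (y₁ : M)⁻¹ * (y₂ : M) ∈ L := QuotientGroup.eq.1 h
    have h2 : (y₁ : M)⁻¹ * (y₂ : M) ∈ Q := Q.mul_mem (Q.inv_mem y₁.2) y₂.2
    have h3 : (y₁ : M)⁻¹ * (y₂ : M) = 1 := by
      have := hL.disjoint.le_bot ⟨h2, h1⟩
      exact this
    apply Subtype.ext
    exact inv_mul_eq_one.1 h3
  · intro c
    induction c using QuotientGroup.induction_on with
    | H m =>
      obtain ⟨⟨q, l⟩, h⟩ := hL.2 m
      refine ⟨q, ?_⟩
      show ((q : M) : M ⧸ L) = (m : M ⧸ L)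
      rw [QuotientGroup.eq]
      have h' : (q : M) * (l : M) = m := h
      rw [← h', ← mul_assoc, inv_mul_cancel, one_mul]
      exact l.2

/-- L9: the coset action of `M = Q ⋊ L` on `M ⧸ L ≃ Q ≃ F`, as a homomorphism into `Perm F`. -/
theorem exists_perm_hom {M : Type*} [Group M] (Q L : Subgroup M) [Q.Normal]
    (hL : Subgroup.IsComplement' Q L) {F : Type*} [AddGroup F] (ε : ↥Q ≃ F)
    (hε : ∀ x y : Q, ε (x * y) = ε x + ε y) :
    ∃ f : M →* Equiv.Perm F, f.ker = L.normalCore ∧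
      ∀ (q : Q) (l : L) (x : F),
        f ((q : M) * (l : M)) x = ε q + ε (MulAut.conjNormal (l : M) (ε.symm x)) := by
  classical
  let Φ : Q ≃ M ⧸ L := Equiv.ofBijective _ (l9_bijective Q L hL)
  have hΦ : ∀ y : Q, Φ y = ((y : M) : M ⧸ L) := fun y => rfl
  let E : M ⧸ L ≃ F := Φ.symm.trans ε
  let f : M →* Equiv.Perm F :=
    (E.permCongrHom.toMonoidHom).comp (MulAction.toPermHom M (M ⧸ L))
  have hf : ∀ (m : M) (x : F), f m x = E (m • E.symm x) := fun m x => rfl
  refine ⟨f, ?_, ?_⟩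
  · rw [Subgroup.normalCore_eq_ker]
    ext m
    rw [MonoidHom.mem_ker, MonoidHom.mem_ker]
    show E.permCongrHom (MulAction.toPermHom M (M ⧸ L) m) = 1 ↔ _
    rw [map_eq_one_iff E.permCongrHom E.permCongrHom.injective]
  · intro q l x
    rw [hf]
    have hE : E.symm x = Φ (ε.symm x) := rfl
    rw [hE, hΦ]
    set y : Q := ε.symm x with hy
    have h1 : ((q : M) * (l : M)) • ((y : M) : M ⧸ L) =
        Φ (q * MulAut.conjNormal (l : M) y) := by
      rw [hΦ]
      show (((q : M) * (l : M) * (y : M) : M) : M ⧸ L) = _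
      rw [QuotientGroup.eq]
      have h2 : ((q * MulAut.conjNormal (l : M) y : Q) : M) = (q : M) * ((l : M) * (y : M) * (l : M)⁻¹) := by
        rw [Subgroup.coe_mul, MulAut.conjNormal_apply]
      rw [h2]
      have h3 : ((q : M) * (l : M) * (y : M))⁻¹ * ((q : M) * ((l : M) * (y : M) * (l : M)⁻¹)) = (l : M)⁻¹ := by
        group
      rw [h3]
      exact L.inv_mem l.2
    rw [h1]
    show ε (Φ.symm (Φ (q * MulAut.conjNormal (l : M) y))) = _
    rw [Equiv.symm_apply_apply, hε]

end Cfsg.Agent.Lib.Helper55.SA
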