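import Mathlib
import Cfsg.Agent.Lib.Helper55.SA.Final

set_option autoImplicit false

/-!
# S4025 from Huppert's theorem
-/

namespace Cfsg.Agent.Lib.Helper55.SA

open Cfsg

universe u

theorem main_abstract (Hup : HuppertStmt.{u, u}) {M : Type u} [Group M] [Finite M] {p n : ℕ}
    [hp : Fact p.Prime] (hn : 3 ≤ n) (Q : Subgroup M) [Q.Normal] (hQcard : Nat.card Q = p ^ n)
    [hQab : IsMulCommutative Q] (hQexp : ∀ x ∈ Q, x ^ p = 1) (hQi : ¬ p ∣ Q.index)
    (hsolv : Group.IsSolvable (M ⧸ Cfsg.pPrimeCore p M))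
    (htr : ∀ W₁ W₂ : Subgroup M, W₁ ≤ Q → W₂ ≤ Q → Nat.card W₁ = Nat.card W₂ →
      ∃ m : M, W₂ = W₁.map (MulAut.conj m).toMonoidHom) :
    (n = 3 ∧ (∃ f : M ⧸ Cfsg.pPrimeCore p M →* ↥(Cfsg.semiaffineGroup (GaloisField p 3)),
        Function.Injective f) ∧
      (p = 2 → Nonempty (M ⧸ Cfsg.pPrimeCore p M ≃* Cfsg.semiaffineGroup (GaloisField 2 3)) ∨
               Nonempty (M ⧸ Cfsg.pPrimeCore p M ≃* Cfsg.affineGroup (GaloisField 2 3)))) ∨
    (n = 5 ∧ p = 2 ∧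
      Nonempty (M ⧸ Cfsg.pPrimeCore p M ≃* Cfsg.semiaffineGroup (GaloisField 2 5))) := by
  obtain ⟨k, hk2, hk3, ⟨f, hf⟩, h4, h5⟩ := core_abstract Hup hn Q hQcard hQexp hQi hsolv htr
  rcases hk3 with h3 | ⟨h5', hp2, hk5⟩
  · subst h3
    refine Or.inl ⟨rfl, ⟨f, hf⟩, fun hp2 => ?_⟩
    subst hp2
    rcases (Nat.dvd_prime Nat.prime_three).1 hk2 with hk | hk
    · exact Or.inr (h5 rfl rfl hk)
    · exact Or.inl (h4 rfl hk)
  · subst h5'
    subst hp2
    exact Or.inr ⟨rfl, rfl, h4 rfl hk5⟩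

theorem s4025_of_huppert (Hup : HuppertStmt.{u, u}) {G : Type u} [Group G] [Finite G]
    {p : ℕ} [Fact p.Prime]
    (hC : ∀ H K : Subgroup G, IsPGroup p H → IsPGroup p K → Nat.card H = Nat.card K →
      ∃ g : G, K = H.map (MulAut.conj g).toMonoidHom) (P : Sylow p G) (n : ℕ) (hn : 3 ≤ n)
    (hel : Cfsg.IsElementaryAbelian p (P : Subgroup G)) (hcard : Nat.card P = p ^ n)
    (N : Subgroup G) (hN : N = Subgroup.normalizer ((P : Subgroup G) : Set G))
    (hsolv : Group.IsSolvable (↥N ⧸ Cfsg.pPrimeCore p ↥N)) :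
    (n = 3 ∧ (∃ f : ↥N ⧸ Cfsg.pPrimeCore p ↥N →* ↥(Cfsg.semiaffineGroup (GaloisField p 3)),
        Function.Injective f) ∧
      (p = 2 → Nonempty (↥N ⧸ Cfsg.pPrimeCore p ↥N ≃* Cfsg.semiaffineGroup (GaloisField 2 3)) ∨
               Nonempty (↥N ⧸ Cfsg.pPrimeCore p ↥N ≃* Cfsg.affineGroup (GaloisField 2 3)))) ∨
    (n = 5 ∧ p = 2 ∧
      Nonempty (↥N ⧸ Cfsg.pPrimeCore p ↥N ≃* Cfsg.semiaffineGroup (GaloisField 2 5))) := by
  have hPN : (P : Subgroup G) ≤ N := by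
    rw [hN]; exact Subgroup.le_normalizer
  haveI hab : IsMulCommutative (P : Subgroup G) := hel.1
  have hPab : ∀ x ∈ (P : Subgroup G), ∀ y ∈ (P : Subgroup G), x * y = y * x := by
    intro x hx y hy
    exact congrArg Subtype.val (mul_comm' (⟨x, hx⟩ : (P : Subgroup G)) ⟨y, hy⟩)
  haveI : ((P : Subgroup G).subgroupOf N).Normal := by
    rw [hN]; exact Subgroup.normal_in_normalizer
  haveI : IsMulCommutative ((P : Subgroup G).subgroupOf N) := by
    refine ⟨⟨fun a b => ?_⟩⟩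
    apply Subtype.ext
    apply Subtype.ext
    exact hPab _ a.2 _ b.2
  refine main_abstract Hup hn ((P : Subgroup G).subgroupOf N) ?_ ?_ ?_ hsolv ?_
  · rw [← hcard]
    exact Nat.card_congr (Subgroup.subgroupOfEquivOfLe hPN).toEquiv
  · intro x hx
    apply Subtype.ext
    have := hel.2 (x : G) hx
    simpa using this
  · intro hdvd
    apply P.not_dvd_index
    rw [← Subgroup.relIndex_mul_index hPN]
    exact Dvd.dvd.mul_right hdvd _
  · intro W₁ W₂ h₁ h₂ hc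
    have hle : ∀ W : Subgroup N, W ≤ (P : Subgroup G).subgroupOf N →
        W.map N.subtype ≤ (P : Subgroup G) := by
      rintro W hW _ ⟨w, hw, rfl⟩
      exact hW hw
    have hcm : ∀ W : Subgroup N, Nat.card (W.map N.subtype) = Nat.card W := fun W =>
      Subgroup.card_map_of_injective N.subtype_injective
    obtain ⟨g, hg⟩ := hC (W₁.map N.subtype) (W₂.map N.subtype)
      (P.2.to_le (hle W₁ h₁)) (P.2.to_le (hle W₂ h₂)) (by rw [hcm, hcm, hc])
    obtain ⟨m, hm, hm'⟩ := exists_normalizer_conj P hPab _ _ (hle W₁ h₁) (hle W₂ h₂) g hg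
    rw [← hN] at hm
    refine ⟨⟨m, hm⟩, ?_⟩
    apply Subgroup.map_injective N.subtype_injective
    rw [hm', Subgroup.map_map, Subgroup.map_map]
    rfl

end Cfsg.Agent.Lib.Helper55.SA
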